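import Groth.Agent.H20.NA.StepProof

/-!
# Absolute Noetherian approximation (helper20)
-/

set_option autoImplicit false
universe u
open CategoryTheory CategoryTheory.Limits AlgebraicGeometry Opposite TopologicalSpace

namespace Groth.Agent.H20.NA

lemma isFT_empty : IsFT (∅ : Scheme.{u}) := by
  refine ⟨inferInstance, ?_⟩
  have : specULiftZIsTerminal.from (∅ : Scheme.{u}) = Scheme.emptyTo _ :=
    emptyIsInitial.hom_ext _ _
  rw [this]
  infer_instance

theorem exists_absolute (S : Scheme.{u}) [CompactSpace S] [QuasiSeparatedSpace S] :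
    ∃ (I : Type u) (_ : Preorder I) (_ : IsDirected I (fun a b => a ≤ b)) (_ : Nonempty I)
      (D : Iᵒᵖ ⥤ Scheme.{u}) (c : Limits.Cone D) (_ : Limits.IsLimit c),
      (∀ (i j : Iᵒᵖ) (f : i ⟶ j), IsAffineHom (D.map f)) ∧
      (∀ i, IsFT (D.obj i)) ∧ Nonempty (c.pt ≅ S) := by
  let DV : (PUnit.{u+1})ᵒᵖ ⥤ Scheme.{u} := (Functor.const _).obj (∅ : Scheme.{u})
  let cV : Cone DV := { pt := ∅, π := { app := fun _ => 𝟙 _ } }
  have hcV : IsLimit cV :=
    { lift := fun s => s.π.app (op PUnit.unit)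
      fac := fun s j => by
        obtain ⟨⟨⟩⟩ := j
        exact Category.comp_id _
      uniq := fun s m hm => by
        have := hm (op PUnit.unit)
        rw [← this]
        exact (Category.comp_id _).symm }
  have : IsEmpty ((⊥ : S.Opens) : Scheme.{u}) := ⟨fun x => x.2⟩
  let eV : cV.pt ≅ ((⊥ : S.Opens) : Scheme.{u}) :=
    (isInitialOfIsEmpty (X := (∅ : Scheme.{u}))).uniqueUpToIso isInitialOfIsEmpty
  obtain ⟨A⟩ := exists_relApprox step S ⊥ PUnit.{u+1} DV
    (fun _ _ _ => inferInstanceAs (IsAffineHom (𝟙 (∅ : Scheme.{u}))))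
    (fun _ => isFT_empty) cV hcV eV
  exact ⟨A.J, A.pre, A.dir, A.ne, A.D, A.c, A.hc, A.aff, A.ft, ⟨A.e⟩⟩

end Groth.Agent.H20.NA
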