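import Mathlib

/-!
# Schemes locally of finite type over `Spec (ULift ℤ)` (helper20)
-/

set_option autoImplicit false
universe u
open CategoryTheory CategoryTheory.Limits AlgebraicGeometry Opposite

namespace Groth.Agent.H20.NA

instance : IsNoetherianRing (ULift.{u} ℤ) := isNoetherianRing_of_ringEquiv ℤ ULift.ringEquiv.symm

theorem isNoetherian_of_ft (X : Scheme.{u}) [CompactSpace X]
    [LocallyOfFiniteType (specULiftZIsTerminal.from X)] : IsNoetherian X := by
  have : IsLocallyNoetherian X :=
    LocallyOfFiniteType.isLocallyNoetherian (specULiftZIsTerminal.from X)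
  exact {}

theorem intCast_surjective_of_ringEquiv {A : Type*} [Ring A] (e : ℤ ≃+* A) :
    Function.Surjective (Int.castRingHom A) := by
  intro a
  refine ⟨e.symm a, ?_⟩
  have : (Int.castRingHom A) = (e : ℤ →+* A) := RingHom.ext_int _ _
  rw [this]
  exact e.apply_symm_apply a

theorem finiteType_int_of_isAffineOpen {X : Scheme.{u}}
    [LocallyOfFiniteType (specULiftZIsTerminal.from X)] {V : X.Opens} (hV : IsAffineOpen V) :
    Algebra.FiniteType ℤ Γ(X, V) := by
  have h1 := HasRingHomProperty.appLE (P := @LocallyOfFiniteType) (specULiftZIsTerminal.from X)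
    inferInstance ⟨⊤, isAffineOpen_top _⟩ ⟨V, hV⟩ le_top
  let A := Γ(Spec (CommRingCat.of (ULift.{u} ℤ)), ⊤)
  let e : ℤ ≃+* A :=
    (ULift.ringEquiv.symm : ℤ ≃+* ULift.{u} ℤ).trans
      (Scheme.ΓSpecIso (CommRingCat.of (ULift.{u} ℤ))).symm.commRingCatIsoToRingEquiv
  have h2 : (Int.castRingHom A).FiniteType :=
    RingHom.FiniteType.of_surjective _ (intCast_surjective_of_ringEquiv e)
  have h3 := h1.comp h2
  rw [← RingHom.finiteType_algebraMap]
  convert h3 using 1
  exact RingHom.ext_int _ _


theorem locallyOfFiniteType_from_Spec (A : CommRingCat.{u}) (hA : Algebra.FiniteType ℤ A) :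
    LocallyOfFiniteType (specULiftZIsTerminal.from (Spec A)) := by
  let f : CommRingCat.of (ULift.{u} ℤ) ⟶ A :=
    CommRingCat.ofHom ((Int.castRingHom A).comp (ULift.ringEquiv : ULift.{u} ℤ ≃+* ℤ).toRingHom)
  have h1 : specULiftZIsTerminal.from (Spec A) = Spec.map f := specULiftZIsTerminal.hom_ext _ _
  rw [h1, HasRingHomProperty.Spec_iff (P := @LocallyOfFiniteType)]
  have h2 : (f.hom.comp (Int.castRingHom (ULift.{u} ℤ))).FiniteType := by
    have : f.hom.comp (Int.castRingHom (ULift.{u} ℤ)) = algebraMap ℤ A := RingHom.ext_int _ _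
    rw [this, RingHom.finiteType_algebraMap]
    exact hA
  exact RingHom.FiniteType.of_comp_finiteType h2

end Groth.Agent.H20.NA
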