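import Groth.Agent.H20.NA.ClImmFP
import Groth.Agent.H20.ClosedLimit
import Groth.Agent.H24.LimitSepStructure

/-!
# Separated finite type morphisms embed into separated finitely presented ones
-/

set_option autoImplicit false
set_option linter.unusedSectionVars false
universe u
open CategoryTheory CategoryTheory.Limits AlgebraicGeometry TopologicalSpace Opposite

namespace Groth.Agent.H20.NA

open Groth.Agent.H20.ClosedLimit

section

variable {X Y : Scheme.{u}} (ι : X ⟶ Y)

/-- The inverse system of closed subschemes, as a diagram of schemes. -/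
noncomputable def schemeDiagram : (Idx ι)ᵒᵖ ⥤ Scheme.{u} := diagram ι ⋙ Over.forget Y

lemma schemeDiagram_obj (i : (Idx ι)ᵒᵖ) : (schemeDiagram ι).obj i = i.unop.1.subscheme := rfl

lemma schemeDiagram_map {i j : (Idx ι)ᵒᵖ} (a : i ⟶ j) :
    (schemeDiagram ι).map a =
      Scheme.IdealSheafData.inclusion (show j.unop.1 ≤ i.unop.1 from leOfHom a.unop) := rfl

lemma isClosedImmersion_inclusion {I J : Y.IdealSheafData} (h : I ≤ J) :
    IsClosedImmersion (Scheme.IdealSheafData.inclusion h) := by
  have : IsClosedImmersion (Scheme.IdealSheafData.inclusion h ≫ I.subschemeι) := by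
    rw [Scheme.IdealSheafData.inclusion_subschemeι]
    infer_instance
  exact IsClosedImmersion.of_comp _ I.subschemeι

instance (i j : (Idx ι)ᵒᵖ) (a : i ⟶ j) : IsClosedImmersion ((schemeDiagram ι).map a) := by
  rw [schemeDiagram_map]
  exact isClosedImmersion_inclusion _

instance (i j : (Idx ι)ᵒᵖ) (a : i ⟶ j) : IsAffineHom ((schemeDiagram ι).map a) := inferInstance

variable [IsClosedImmersion ι]

/-- The cone over the scheme diagram. -/
noncomputable def schemeCone : Cone (schemeDiagram ι) := (Over.forget Y).mapCone (cone ι)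

lemma schemeCone_pt : (schemeCone ι).pt = X := rfl

lemma schemeCone_π (i : (Idx ι)ᵒᵖ) : (schemeCone ι).π.app i = toSub ι i.unop := rfl

variable [CompactSpace Y] [QuasiSeparatedSpace Y]

attribute [local instance] IsCofiltered.isConnected in
noncomputable def isLimitSchemeCone : IsLimit (schemeCone ι) :=
  isLimitOfPreserves (Over.forget Y) (isLimitCone ι)

end

end Groth.Agent.H20.NA

namespace Groth.Agent.H20.NA

open Groth.Agent.H20.ClosedLimit

section

variable {X Y : Scheme.{u}} (ι : X ⟶ Y)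

instance subscheme_compactSpace [CompactSpace Y] (I : Y.IdealSheafData) :
    CompactSpace I.subscheme :=
  QuasiCompact.compactSpace_of_compactSpace I.subschemeι

instance subscheme_quasiSeparatedSpace [QuasiSeparatedSpace Y] (I : Y.IdealSheafData) :
    QuasiSeparatedSpace I.subscheme :=
  quasiSeparatedSpace_of_quasiSeparated I.subschemeι

instance [CompactSpace Y] (i : (Idx ι)ᵒᵖ) : CompactSpace ((schemeDiagram ι).obj i) :=
  subscheme_compactSpace _

instance [QuasiSeparatedSpace Y] (i : (Idx ι)ᵒᵖ) : QuasiSeparatedSpace ((schemeDiagram ι).obj i) :=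
  subscheme_quasiSeparatedSpace _

/-- The structure maps to a base. -/
noncomputable def schemeStr {S : Scheme.{u}} (g : Y ⟶ S) :
    schemeDiagram ι ⟶ (Functor.const (Idx ι)ᵒᵖ).obj S where
  app i := i.unop.1.subschemeι ≫ g
  naturality i j a := by
    change (Scheme.IdealSheafData.inclusion (show j.unop.1 ≤ i.unop.1 from leOfHom a.unop) :
      i.unop.1.subscheme ⟶ j.unop.1.subscheme) ≫ (j.unop.1.subschemeι ≫ g) =
        (i.unop.1.subschemeι ≫ g) ≫ 𝟙 S
    rw [Category.comp_id, Scheme.IdealSheafData.inclusion_subschemeι_assoc]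

lemma schemeStr_app {S : Scheme.{u}} (g : Y ⟶ S) (i : (Idx ι)ᵒᵖ) :
    (schemeStr ι g).app i = i.unop.1.subschemeι ≫ g := rfl

end

theorem exists_separated_fp {X S : Scheme.{u}} (f : X ⟶ S) [IsSeparated f]
    [LocallyOfFiniteType f] [QuasiCompact f] [CompactSpace S] [QuasiSeparatedSpace S] :
    ∃ (X' : Scheme.{u}) (f' : X' ⟶ S) (j : X ⟶ X'), IsSeparated f' ∧
      LocallyOfFinitePresentation f' ∧ QuasiCompact f' ∧ IsClosedImmersion j ∧ j ≫ f' = f := by
  have hcX : CompactSpace X := QuasiCompact.compactSpace_of_compactSpace f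
  have hqsX : QuasiSeparatedSpace X := quasiSeparatedSpace_of_quasiSeparated f
  obtain ⟨X₁, f₁, j₁, h1, h2, h3, h4, h5, h6, h7⟩ := exists_closedImmersion_fp f
  have hne : Nonempty (Idx j₁) := inferInstance
  let i₀ : (Idx j₁)ᵒᵖ := op hne.some
  have hsep : IsSeparated ((schemeCone j₁).π.app i₀ ≫ (schemeStr j₁ f₁).app i₀) := by
    have e : (toSub j₁ i₀.unop : X ⟶ i₀.unop.1.subscheme) ≫ (i₀.unop.1.subschemeι ≫ f₁) = f := by
      rw [toSub_ι_assoc, h5]
    change IsSeparated ((toSub j₁ i₀.unop : X ⟶ i₀.unop.1.subscheme) ≫ (i₀.unop.1.subschemeι ≫ f₁))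
    rw [e]
    infer_instance
  obtain ⟨i₁, hi₁⟩ := Groth.Agent.H24.eventually_isSeparated_structureMap S (schemeDiagram j₁)
    (schemeStr j₁ f₁) (schemeCone j₁) (isLimitSchemeCone j₁) i₀
  have hs := hi₁ i₁ (𝟙 _)
  rw [schemeStr_app] at hs
  have hfp : LocallyOfFinitePresentation i₁.unop.1.subschemeι :=
    Groth.Agent.H20.IdealFP.locallyOfFinitePresentation_subschemeι _ i₁.unop.2.2
  refine ⟨i₁.unop.1.subscheme, i₁.unop.1.subschemeι ≫ f₁, toSub j₁ i₁.unop, hs, inferInstance,
    inferInstance, ?_, ?_⟩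
  · have : IsClosedImmersion (toSub j₁ i₁.unop ≫ i₁.unop.1.subschemeι) := by
      rw [toSub_ι]; infer_instance
    exact IsClosedImmersion.of_comp _ i₁.unop.1.subschemeι
  · rw [toSub_ι_assoc, h5]

end Groth.Agent.H20.NA
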