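import Mathlib

/-!
# `Over.map` preserves connected limits
-/

set_option autoImplicit false
universe v u w w'
open CategoryTheory CategoryTheory.Limits

namespace Groth.Agent.H20.NA

variable {C : Type u} [Category.{v} C] {J : Type w} [Category.{w'} J]

lemma preservesLimitsOfShape_overMap [IsConnected J] {X S : C} (g : X ⟶ S) :
    PreservesLimitsOfShape J (Over.map g) := by
  have h : Over.map g = (Over.mk g).iteratedSliceBackward ⋙ Over.forget (Over.mk g) :=
    (Over.iteratedSliceBackward_forget (Over.mk g)).symm
  rw [h]
  have : (Over.mk g).iteratedSliceBackward.IsEquivalence :=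
    inferInstanceAs ((Over.mk g).iteratedSliceEquiv.inverse.IsEquivalence)
  infer_instance

end Groth.Agent.H20.NA
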