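import Groth.Agent.H20.NA.SepFP
import Groth.Agent.H20.NA.OverMapLim

/-!
# A finite type qcqs scheme over `S` is a limit of finitely presented ones with closed immersions
as transition maps
-/

set_option autoImplicit false
set_option linter.unusedSectionVars false
universe u
open CategoryTheory CategoryTheory.Limits AlgebraicGeometry TopologicalSpace Opposite

namespace Groth.Agent.H20.NA

open Groth.Agent.H20.ClosedLimit

theorem exists_limit_fp_closed {X S : Scheme.{u}}
    (f : X ⟶ S) [LocallyOfFiniteType f] [CompactSpace X] [QuasiSeparatedSpace X]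
    [QuasiSeparatedSpace S] :
    ∃ (I : Type u) (_ : Preorder I) (_ : IsDirected I (fun a b => a ≤ b)) (_ : Nonempty I)
      (D : Iᵒᵖ ⥤ Over S) (c : Limits.Cone D) (_ : Limits.IsLimit c),
      (∀ i, LocallyOfFinitePresentation (D.obj i).hom ∧ QuasiCompact (D.obj i).hom ∧
        QuasiSeparated (D.obj i).hom ∧ CompactSpace (D.obj i).left ∧
        QuasiSeparatedSpace (D.obj i).left) ∧
      (∀ (i j : Iᵒᵖ) (a : i ⟶ j), IsClosedImmersion (D.map a).left) ∧
      Nonempty (c.pt ≅ Over.mk f) := by
  obtain ⟨X₁, f₁, j₁, h1, h2, h3, h4, h5, h6, h7⟩ := exists_closedImmersion_fp f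
  have hconn : IsConnected (Idx j₁)ᵒᵖ := IsCofiltered.isConnected _
  have := preservesLimitsOfShape_overMap (J := (Idx j₁)ᵒᵖ) f₁
  refine ⟨Idx j₁, inferInstance, inferInstance, inferInstance, diagram j₁ ⋙ Over.map f₁,
    (Over.map f₁).mapCone (cone j₁), isLimitOfPreserves (Over.map f₁) (isLimitCone j₁),
    ?_, ?_, ?_⟩
  · intro i
    have hfp : LocallyOfFinitePresentation i.unop.1.subschemeι :=
      Groth.Agent.H20.IdealFP.locallyOfFinitePresentation_subschemeι _ i.unop.2.2
    refine ⟨?_, ?_, ?_, ?_, ?_⟩
    · change LocallyOfFinitePresentation (i.unop.1.subschemeι ≫ f₁)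
      infer_instance
    · change QuasiCompact (i.unop.1.subschemeι ≫ f₁)
      infer_instance
    · change QuasiSeparated (i.unop.1.subschemeι ≫ f₁)
      infer_instance
    · exact subscheme_compactSpace i.unop.1
    · exact subscheme_quasiSeparatedSpace i.unop.1
  · intro i j a
    change IsClosedImmersion (Scheme.IdealSheafData.inclusion
      (show j.unop.1 ≤ i.unop.1 from leOfHom a.unop))
    exact isClosedImmersion_inclusion _
  · exact ⟨eqToIso (by change Over.mk (j₁ ≫ f₁) = Over.mk f; rw [h5])⟩

end Groth.Agent.H20.NA
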