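import Groth.Agent.H20.NA.FiniteFP
import Groth.Agent.H20.NA.LimFPClosed

/-!
# A finite scheme over a qcqs base is a limit of finite finitely presented ones
-/

set_option autoImplicit false
set_option linter.unusedSectionVars false
universe u
open CategoryTheory CategoryTheory.Limits AlgebraicGeometry TopologicalSpace Opposite

namespace Groth.Agent.H20.NA

open Groth.Agent.H20.ClosedLimit

section

variable {X Y : Scheme.{u}} (ι : X ⟶ Y) (i₀ : Idx ι)

/-- The final segment of the index set above `i₀`. -/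
abbrev IdxGE : Type u := {i : Idx ι // i₀ ≤ i}

instance : Nonempty (IdxGE ι i₀) := ⟨⟨i₀, le_rfl⟩⟩

instance : IsDirected (IdxGE ι i₀) (fun a b => a ≤ b) :=
  ⟨fun a b => by
    obtain ⟨c, hac, hbc⟩ := directed_of (fun a b : Idx ι => a ≤ b) a.1 b.1
    exact ⟨⟨c, a.2.trans hac⟩, hac, hbc⟩⟩

/-- The inclusion of the final segment. -/
def inclGE : (IdxGE ι i₀)ᵒᵖ ⥤ (Idx ι)ᵒᵖ :=
  (Subtype.mono_coe (fun i : Idx ι => i₀ ≤ i)).functor.op

lemma inclGE_obj (i : (IdxGE ι i₀)ᵒᵖ) : (inclGE ι i₀).obj i = op i.unop.1 := rfl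

instance : (Subtype.mono_coe (fun i : Idx ι => i₀ ≤ i)).functor.Final := by
  rw [Monotone.final_functor_iff]
  intro k
  obtain ⟨c, hac, hbc⟩ := directed_of (fun a b : Idx ι => a ≤ b) i₀ k
  exact ⟨⟨c, hac⟩, hbc⟩

instance : (inclGE ι i₀).Initial := by
  unfold inclGE
  infer_instance

end

theorem exists_limit_finite_fp {X S : Scheme.{u}} (f : X ⟶ S) [IsFinite f]
    [CompactSpace S] [QuasiSeparatedSpace S] :
    ∃ (I : Type u) (_ : Preorder I) (_ : IsDirected I (fun a b => a ≤ b)) (_ : Nonempty I)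
      (D : Iᵒᵖ ⥤ Over S) (c : Limits.Cone D) (_ : Limits.IsLimit c),
      (∀ i, IsFinite (D.obj i).hom ∧ LocallyOfFinitePresentation (D.obj i).hom) ∧
      (∀ (i j : Iᵒᵖ) (a : i ⟶ j), IsClosedImmersion (D.map a).left) ∧
      Nonempty (c.pt ≅ Over.mk f) := by
  have hcX : CompactSpace X := QuasiCompact.compactSpace_of_compactSpace f
  have hqsX : QuasiSeparatedSpace X := quasiSeparatedSpace_of_quasiSeparated f
  obtain ⟨X₁, f₁, j₁, h1, h2, h3, h4, h5, h6, h7⟩ := exists_closedImmersion_fp f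
  have hint : IsIntegralHom (j₁ ≫ f₁) := by rw [h5]; infer_instance
  obtain ⟨i₀, hi₀⟩ := exists_stage_isFinite j₁ f₁
  have hconn : IsConnected (Idx j₁)ᵒᵖ := IsCofiltered.isConnected _
  have := preservesLimitsOfShape_overMap (J := (Idx j₁)ᵒᵖ) f₁
  have hlim : IsLimit ((Over.map f₁).mapCone (cone j₁)) :=
    isLimitOfPreserves (Over.map f₁) (isLimitCone j₁)
  refine ⟨IdxGE j₁ i₀, inferInstance, inferInstance, inferInstance,
    inclGE j₁ i₀ ⋙ diagram j₁ ⋙ Over.map f₁,
    ((Over.map f₁).mapCone (cone j₁)).whisker (inclGE j₁ i₀),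
    (Functor.Initial.isLimitWhiskerEquiv (inclGE j₁ i₀) _).symm hlim, ?_, ?_, ?_⟩
  · intro i
    have hfp : LocallyOfFinitePresentation i.unop.1.1.subschemeι :=
      Groth.Agent.H20.IdealFP.locallyOfFinitePresentation_subschemeι _ i.unop.1.2.2
    refine ⟨?_, ?_⟩
    · change IsFinite (i.unop.1.1.subschemeι ≫ f₁)
      have hle : i₀.1 ≤ i.unop.1.1 := i.unop.2
      have e : Scheme.IdealSheafData.inclusion hle ≫ (i₀.1.subschemeι ≫ f₁) =
          i.unop.1.1.subschemeι ≫ f₁ := by
        rw [Scheme.IdealSheafData.inclusion_subschemeι_assoc]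
      rw [← e]
      have := isClosedImmersion_inclusion hle
      infer_instance
    · change LocallyOfFinitePresentation (i.unop.1.1.subschemeι ≫ f₁)
      infer_instance
  · intro i j a
    change IsClosedImmersion (Scheme.IdealSheafData.inclusion
      (show j.unop.1.1 ≤ i.unop.1.1 from leOfHom a.unop))
    exact isClosedImmersion_inclusion _
  · exact ⟨eqToIso (by change Over.mk (j₁ ≫ f₁) = Over.mk f; rw [h5])⟩

end Groth.Agent.H20.NA
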