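import Groth.Agent.H20.NA.ImmFP
import Groth.Agent.H24.LimitImmStructure

/-!
# Closed immersion into a finitely presented scheme (helper20, Stacks 09ZQ)
-/

set_option autoImplicit false
universe u
open CategoryTheory CategoryTheory.Limits AlgebraicGeometry Opposite TopologicalSpace

namespace Groth.Agent.H20.NA

/-- A quasi-compact open neighbourhood of the image of an immersion from a quasi-compact scheme
inside its coborder. -/
theorem exists_isCompact_le_coborderRange {X Y : Scheme.{u}} (j : X ⟶ Y) [IsImmersion j]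
    [CompactSpace X] :
    ∃ U' : Y.Opens, IsCompact (U' : Set Y) ∧ U' ≤ j.coborderRange ∧ Set.range j ⊆ U' := by
  classical
  have hx : ∀ x : X, ∃ W : Y.Opens, IsAffineOpen W ∧ j x ∈ W ∧ W ≤ j.coborderRange := by
    intro x
    have hmem : j x ∈ j.coborderRange := subset_coborder ⟨x, rfl⟩
    obtain ⟨_, ⟨W, hW, rfl⟩, hxW, hWle⟩ := Y.isBasis_affineOpens.exists_subset_of_mem_open
      hmem j.coborderRange.isOpen
    exact ⟨W, hW, hxW, hWle⟩
  choose W hW hxW hWle using hx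
  obtain ⟨σ, hσ⟩ := CompactSpace.elim_nhds_subcover
    (fun x => ((j ⁻¹ᵁ W x : X.Opens) : Set X))
    (fun x => IsOpen.mem_nhds (j ⁻¹ᵁ W x).2 (hxW x))
  refine ⟨⨆ x : σ, W x.1, ?_, iSup_le fun x => hWle x.1, ?_⟩
  · rw [Opens.coe_iSup]
    exact isCompact_iUnion fun x => (hW x.1).isCompact
  · rintro _ ⟨y, rfl⟩
    have hy : y ∈ ⋃ x ∈ σ, ((j ⁻¹ᵁ W x : X.Opens) : Set X) := by rw [hσ]; trivial
    obtain ⟨x, hx⟩ := Set.mem_iUnion.mp hy
    obtain ⟨hxσ, hyx⟩ := Set.mem_iUnion.mp hx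
    exact Opens.mem_iSup.mpr ⟨⟨x, hxσ⟩, hyx⟩

theorem exists_closedImmersion_fp {X S : Scheme.{u}} (f : X ⟶ S) [LocallyOfFiniteType f]
    [CompactSpace X] [QuasiSeparatedSpace X] [QuasiSeparatedSpace S] :
    ∃ (X' : Scheme.{u}) (f' : X' ⟶ S) (j : X ⟶ X'), LocallyOfFinitePresentation f' ∧
      QuasiCompact f' ∧ QuasiSeparated f' ∧ IsClosedImmersion j ∧ j ≫ f' = f ∧
      CompactSpace X' ∧ QuasiSeparatedSpace X' := by
  obtain ⟨X₁, f₁, j₁, h1, h2, h3, h4, h5⟩ := exists_immersion_fp f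
  obtain ⟨U', hU'c, hU'le, hU'r⟩ := exists_isCompact_le_coborderRange j₁
  have hqs : QuasiSeparatedSpace X₁ := quasiSeparatedSpace_of_quasiSeparated f₁
  have hqsU : QuasiSeparatedSpace (U' : Scheme.{u}) :=
    (isQuasiSeparated_iff_quasiSeparatedSpace _ U'.2).mp (.of_quasiSeparatedSpace _)
  have hcU : CompactSpace (U' : Scheme.{u}) := isCompact_iff_compactSpace.mp hU'c
  have hr : Set.range j₁ ⊆ Set.range U'.ι := by
    rw [Scheme.Opens.range_ι]
    exact hU'r
  let j' : X ⟶ (U' : Scheme.{u}) := IsOpenImmersion.lift U'.ι j₁ hr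
  have hj' : j' ≫ U'.ι = j₁ := IsOpenImmersion.lift_fac _ _ _
  have hqc : QuasiCompact U'.ι := inferInstance
  refine ⟨(U' : Scheme.{u}), U'.ι ≫ f₁, j', inferInstance, inferInstance, inferInstance,
    Groth.Agent.H24.isClosedImmersion_of_le_coborderRange j₁ U' hU'le j' hj', ?_, hcU, hqsU⟩
  rw [← Category.assoc, hj', h5]

end Groth.Agent.H20.NA
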