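import Groth.Agent.H20.NA.RelApprox

/-!
# From a relative approximation to the statement of S7447 (helper20)
-/

set_option autoImplicit false
universe u
open CategoryTheory CategoryTheory.Limits AlgebraicGeometry Opposite

namespace Groth.Agent.H20.NA

theorem preimage_opensRange_of_isPullback {P X Y Z : Scheme.{u}} {fst : P ⟶ X} {snd : P ⟶ Y}
    {f : X ⟶ Z} {g : Y ⟶ Z} [IsOpenImmersion f] [IsOpenImmersion snd]
    (h : IsPullback fst snd f g) : g ⁻¹ᵁ f.opensRange = snd.opensRange := by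
  apply TopologicalSpace.Opens.ext
  have := Scheme.image_preimage_eq_of_isPullback h Set.univ
  simp only [Set.preimage_univ, Set.image_univ] at this
  exact this.symm

theorem RelApprox.conclusion {S : Scheme.{u}} (V : S.Opens) {I : Type u} [Preorder I]
    (DV : Iᵒᵖ ⥤ Scheme.{u}) (cV : Cone DV) (eV : cV.pt ≅ (V : Scheme.{u}))
    (A : RelApprox DV cV (eV.hom ≫ V.ι)) :
    ∃ (J : Type u) (_ : Preorder J) (_ : IsDirected J (fun a b => a ≤ b)) (_ : Nonempty J)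
      (DS : Jᵒᵖ ⥤ Scheme.{u}) (cS : Limits.Cone DS) (_ : Limits.IsLimit cS) (eS : cS.pt ≅ S)
      (α : J →o I) (V' : ∀ j : J, (DS.obj (op j)).Opens)
      (φ : ∀ j : J, (V' j : Scheme.{u}) ≅ DV.obj (op (α j))),
      (∀ (j j' : Jᵒᵖ) (a : j ⟶ j'), IsAffineHom (DS.map a)) ∧
      (∀ j, CompactSpace (DS.obj j) ∧
        LocallyOfFiniteType (Limits.IsTerminal.from specULiftZIsTerminal (DS.obj j))) ∧
      (∀ (j j' : J) (h : j' ≤ j), (DS.map (homOfLE h).op) ⁻¹ᵁ (V' j') = V' j) ∧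
      (∀ j : J, (eS.inv ≫ cS.π.app (op j)) ⁻¹ᵁ (V' j) = V) ∧
      (∀ j : J, ∃ ρ : (V : Scheme.{u}) ⟶ (V' j : Scheme.{u}),
        ρ ≫ (V' j).ι = V.ι ≫ eS.inv ≫ cS.π.app (op j) ∧
          ρ ≫ (φ j).hom = eV.inv ≫ cV.π.app (op (α j))) ∧
      (∀ (j j' : J) (h : j' ≤ j), ∃ τ : (V' j : Scheme.{u}) ⟶ (V' j' : Scheme.{u}),
        τ ≫ (V' j').ι = (V' j).ι ≫ DS.map (homOfLE h).op ∧
        (φ j).hom ≫ DV.map (homOfLE (α.mono h)).op = τ ≫ (φ j').hom) := by
  have hoi : ∀ j, IsOpenImmersion (A.ι j) := A.oi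
  refine ⟨A.J, A.pre, A.dir, A.ne, A.D, A.c, A.hc, A.e, A.α, fun j => (A.ι j).opensRange,
    fun j => (A.ι j).isoOpensRange.symm, A.aff, A.ft, ?_, ?_, ?_, ?_⟩
  · intro j j' h
    exact preimage_opensRange_of_isPullback (A.sq j j' h)
  · intro j
    have hp := A.sqc j
    have : IsOpenImmersion ((eV.hom ≫ V.ι) ≫ A.e.inv) := inferInstance
    have h1 := preimage_opensRange_of_isPullback hp
    rw [Scheme.Hom.comp_preimage, h1, Scheme.Hom.opensRange_comp, Scheme.Hom.preimage_image_eq,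
      Scheme.Hom.opensRange_comp_of_isIso, Scheme.Opens.opensRange_ι]
  · intro j
    refine ⟨eV.inv ≫ cV.π.app (op (A.α j)) ≫ (A.ι j).isoOpensRange.hom, ?_, ?_⟩
    · have hw := (A.sqc j).w
      simp only [Category.assoc, Scheme.Hom.isoOpensRange_hom_ι]
      rw [hw]
      simp
    · simp
  · intro j j' h
    refine ⟨(A.ι j).isoOpensRange.inv ≫ DV.map (homOfLE (A.α.mono h)).op ≫
      (A.ι j').isoOpensRange.hom, ?_, ?_⟩
    · have hw := (A.sq j j' h).w
      simp only [Category.assoc, Scheme.Hom.isoOpensRange_hom_ι]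
      rw [hw, Scheme.Hom.isoOpensRange_inv_comp_assoc]
    · simp

end Groth.Agent.H20.NA
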