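import Groth.Agent.H20.NA.FibIdx

/-!
# `R` is the colimit of the good subalgebras (helper20)
-/

set_option autoImplicit false
universe u
open CategoryTheory CategoryTheory.Limits

namespace Groth.Agent.H20.NA

namespace FibSys

variable {I : Type u} [Preorder I] (F : FibSys I)

/-- The transition ring maps between good subalgebras. -/
def next {k k' : F.Idx} (h : k ≤ k') : k.A →+* k'.A :=
  (AlgHom.codRestrict ((F.tr (Idx.le_i h)).comp k.A.val) k'.A
    (fun x => Idx.tr_mem h x.2)).toRingHom

@[simp] lemma next_coe {k k' : F.Idx} (h : k ≤ k') (x : k.A) :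
    ((F.next h x : k'.A) : F.R × F.B k'.i) = F.tr (Idx.le_i h) (x : F.R × F.B k.i) := rfl

/-- First projection. -/
def fstHom (k : F.Idx) : k.A →+* F.R := (RingHom.fst _ _).comp k.A.val.toRingHom

/-- Second projection. -/
def sndHom (k : F.Idx) : k.A →+* F.B k.i := (RingHom.snd _ _).comp k.A.val.toRingHom

@[simp] lemma fstHom_apply (k : F.Idx) (x : k.A) : F.fstHom k x = (x : F.R × F.B k.i).1 := rfl
@[simp] lemma sndHom_apply (k : F.Idx) (x : k.A) : F.sndHom k x = (x : F.R × F.B k.i).2 := rfl

lemma fstHom_next {k k' : F.Idx} (h : k ≤ k') (x : k.A) : F.fstHom k' (F.next h x) = F.fstHom k x :=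
  rfl

lemma sndHom_next {k k' : F.Idx} (h : k ≤ k') (x : k.A) :
    F.sndHom k' (F.next h x) = F.res (Idx.le_i h) (F.sndHom k x) := rfl

lemma ρ_fstHom (k : F.Idx) (x : k.A) : F.ρ (F.fstHom k x) = F.σ k.i (F.sndHom k x) :=
  k.good.2.1 x.2

lemma next_refl (k : F.Idx) (x : k.A) : F.next (le_refl k) x = x :=
  Subtype.ext (F.tr_refl _ _)

lemma next_trans {k k' k'' : F.Idx} (h : k ≤ k') (h' : k' ≤ k'') (x : k.A) :
    F.next h' (F.next h x) = F.next (h.trans h') x :=
  Subtype.ext (F.tr_trans _ _ _)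

/-- The distinguished elements as elements of the good subalgebras. -/
def hA (k : F.Idx) (j : Fin F.m) : k.A := ⟨F.hh k.i j, k.good.2.2.1 j⟩

lemma next_hA {k k' : F.Idx} (h : k ≤ k') (j : Fin F.m) : F.next h (F.hA k j) = F.hA k' j :=
  Subtype.ext (F.tr_hh _ j)

lemma fstHom_hA (k : F.Idx) (j : Fin F.m) : F.fstHom k (F.hA k j) = F.g j := rfl

lemma sndHom_hA (k : F.Idx) (j : Fin F.m) : F.sndHom k (F.hA k j) = F.f k.i j := rfl

/-- The diagram of good subalgebras. -/
noncomputable def diagram : F.Idx ⥤ CommRingCat.{u} where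
  obj k := CommRingCat.of k.A
  map {k k'} g := CommRingCat.ofHom (F.next (leOfHom g))
  map_id k := CommRingCat.hom_ext (RingHom.ext fun x => F.next_refl k x)
  map_comp g g' := CommRingCat.hom_ext (RingHom.ext fun x =>
    (F.next_trans (leOfHom g) (leOfHom g') x).symm)

/-- The cocone with point `R`. -/
noncomputable def cocone : Cocone F.diagram where
  pt := CommRingCat.of F.R
  ι :=
    { app := fun k => (CommRingCat.ofHom (F.fstHom k) : CommRingCat.of k.A ⟶ CommRingCat.of F.R)
      naturality := fun k k' g => CommRingCat.hom_ext (RingHom.ext fun x => rfl) }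

theorem isColimit_cocone [IsDirected I (fun a b => a ≤ b)] [Nonempty I] :
    Nonempty (IsColimit F.cocone) := by
  have h1 : IsColimit ((forget CommRingCat).mapCocone F.cocone) := by
    refine Types.FilteredColimit.isColimitOf' _ _ ?_ ?_
    · intro (r : F.R)
      obtain ⟨k, a, ha, rfl⟩ := F.exists_fst_eq r
      exact ⟨k, ⟨a, ha⟩, rfl⟩
    · intro k (x : k.A) (y : k.A) (hxy : F.fstHom k x = F.fstHom k y)
      obtain ⟨k', h, h0⟩ := F.exists_tr_eq_zero k ((x - y : k.A) : F.R × F.B k.i) (x - y).2 (by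
        have : F.fstHom k (x - y) = 0 := by rw [map_sub, hxy, sub_self]
        exact this)
      refine ⟨k', homOfLE h, ?_⟩
      change F.next h x = F.next h y
      have : F.next h (x - y) = 0 := Subtype.ext h0
      rw [map_sub, sub_eq_zero] at this
      exact this
  have : ReflectsColimit F.diagram (forget CommRingCat) :=
    reflectsColimit_of_reflectsIsomorphisms _ _
  exact ⟨isColimitOfReflects (forget CommRingCat) h1⟩

/-- The good subalgebras localize onto the localizations of the `B i`. -/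
theorem isLocalization_hA (k : F.Idx) (j : Fin F.m) :
    letI : Algebra k.A (F.S k.i j) :=
      ((algebraMap (F.B k.i) (F.S k.i j)).comp (F.sndHom k)).toAlgebra
    IsLocalization.Away (F.hA k j) (F.S k.i j) := by
  have : IsLocalization.Away ((F.hA k j : k.A) : F.R × F.B k.i).2 (F.S k.i j) := F.loc k.i j
  refine isLocalization_away_of_le_fibProd (ρ := F.ρ) (σ := F.σ k.i) k.A k.good.2.1 (F.hA k j)
    (F.ker j) (S := F.S k.i j) ?_
  intro x
  obtain ⟨n, a, ha, h⟩ := k.good.2.2.2 j x
  exact ⟨n, ⟨a, ha⟩, h⟩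

end FibSys

end Groth.Agent.H20.NA
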