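import Groth.Agent.H20.NA.FibSys

/-!
# The index set of good subalgebras (helper20)
-/

set_option autoImplicit false
universe u
open CategoryTheory CategoryTheory.Limits

namespace Groth.Agent.H20.NA

namespace FibSys

variable {I : Type u} [Preorder I] (F : FibSys I)

/-- The index set: pairs of a level and a good subalgebra. -/
structure Idx where
  i : I
  A : Subalgebra ℤ (F.R × F.B i)
  good : F.Good i A

variable {F}

instance : LE F.Idx := ⟨fun k k' => ∃ h : k.i ≤ k'.i, k.A.map (F.tr h) ≤ k'.A⟩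

lemma Idx.le_def {k k' : F.Idx} : k ≤ k' ↔ ∃ h : k.i ≤ k'.i, k.A.map (F.tr h) ≤ k'.A := Iff.rfl

instance : Preorder F.Idx where
  le_refl k := ⟨le_refl _, by
    rintro _ ⟨x, hx, rfl⟩
    change F.tr _ x ∈ k.A
    rw [F.tr_refl]
    exact hx⟩
  le_trans k k' k'' := by
    rintro ⟨h, hA⟩ ⟨h', hA'⟩
    refine ⟨h.trans h', ?_⟩
    rintro _ ⟨x, hx, rfl⟩
    change F.tr _ x ∈ k''.A
    rw [← F.tr_trans h h']
    exact hA' ⟨_, hA ⟨x, hx, rfl⟩, rfl⟩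

lemma Idx.le_i {k k' : F.Idx} (h : k ≤ k') : k.i ≤ k'.i := h.1

lemma Idx.tr_mem {k k' : F.Idx} (h : k ≤ k') {x : F.R × F.B k.i} (hx : x ∈ k.A) :
    F.tr (Idx.le_i h) x ∈ k'.A := h.2 ⟨x, hx, rfl⟩

variable (F)

/-- Every finitely generated subalgebra of a fibre product sits in an index. -/
lemma exists_idx (i : I) (A₀ : Subalgebra ℤ (F.R × F.B i)) (hfg : A₀.FG) (hle : A₀ ≤ F.fib i) :
    ∃ k : F.Idx, ∃ h : i ≤ k.i, A₀.map (F.tr h) ≤ k.A := by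
  obtain ⟨A, hA, hgood⟩ := F.exists_good i A₀ hfg hle
  refine ⟨⟨i, A, hgood⟩, le_refl i, ?_⟩
  rintro _ ⟨x, hx, rfl⟩
  change F.tr _ x ∈ A
  rw [F.tr_refl]
  exact hA hx

instance [Nonempty I] : Nonempty F.Idx := by
  obtain ⟨i⟩ := ‹Nonempty I›
  obtain ⟨k, -, -⟩ := F.exists_idx i ⊥ Subalgebra.fg_bot bot_le
  exact ⟨k⟩

instance [IsDirected I (fun a b => a ≤ b)] : IsDirected F.Idx (fun a b => a ≤ b) := by
  refine ⟨fun k k' => ?_⟩
  obtain ⟨i, h, h'⟩ := exists_ge_ge k.i k'.i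
  obtain ⟨A, hA, hgood⟩ := F.exists_good i (k.A.map (F.tr h) ⊔ k'.A.map (F.tr h'))
    ((k.good.1.map _).sup (k'.good.1.map _))
    (sup_le (F.map_fib_le h k.good.2.1) (F.map_fib_le h' k'.good.2.1))
  exact ⟨⟨i, A, hgood⟩, ⟨h, le_sup_left.trans hA⟩, ⟨h', le_sup_right.trans hA⟩⟩

/-- The projection to the levels. -/
def α : F.Idx →o I := ⟨Idx.i, fun _ _ h => h.1⟩

lemma exists_idx_i (i : I) : ∃ k : F.Idx, k.i = i := by
  obtain ⟨A, -, hgood⟩ := F.exists_good i ⊥ Subalgebra.fg_bot bot_le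
  exact ⟨⟨i, A, hgood⟩, rfl⟩

/-- Every element of `R` occurs as a first component. -/
lemma exists_fst_eq (r : F.R) : ∃ (k : F.Idx) (a : F.R × F.B k.i), a ∈ k.A ∧ a.1 = r := by
  obtain ⟨i, t, ht⟩ := F.surj (F.ρ r)
  have hmem : (r, t) ∈ F.fib i := ht.symm
  obtain ⟨A, hA, hgood⟩ := F.exists_good i (Algebra.adjoin ℤ {(r, t)})
    (Subalgebra.fg_def.mpr ⟨_, Set.finite_singleton _, rfl⟩)
    (Algebra.adjoin_le (by rintro _ ⟨⟩; exact hmem))
  exact ⟨⟨i, A, hgood⟩, (r, t), hA (Algebra.subset_adjoin rfl), rfl⟩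

/-- Elements with vanishing first component vanish at a later stage. -/
lemma exists_tr_eq_zero [IsDirected I (fun a b => a ≤ b)] (k : F.Idx) (a : F.R × F.B k.i)
    (ha : a ∈ k.A) (h0 : a.1 = 0) :
    ∃ (k' : F.Idx) (h : k ≤ k'), F.tr (Idx.le_i h) a = 0 := by
  have hfib := k.good.2.1 ha
  have h1 : F.σ k.i a.2 = 0 := by
    have : F.ρ a.1 = F.σ k.i a.2 := hfib
    rw [← this, h0, map_zero]
  obtain ⟨i', h, hres⟩ := F.inj k.i a.2 h1
  obtain ⟨A, hA, hgood⟩ := F.exists_good i' (k.A.map (F.tr h)) (k.good.1.map _)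
    (F.map_fib_le h k.good.2.1)
  refine ⟨⟨i', A, hgood⟩, ⟨h, hA⟩, ?_⟩
  rw [tr_apply]
  exact Prod.ext h0 hres

end FibSys

end Groth.Agent.H20.NA
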