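import Groth.Agent.H20.NA.FibreLoc

/-!
# The directed system of good subalgebras of the fibre products (helper20)

Pure algebra behind the induction step of Noetherian approximation.
-/

set_option autoImplicit false
universe u

namespace Groth.Agent.H20.NA

/-- Ring-level data for the induction step. -/
structure FibSys (I : Type u) [Preorder I] where
  R : Type u
  [cR : CommRing R]
  Bl : Type u
  [cBl : CommRing Bl]
  ρ : R →+* Bl
  B : I → Type u
  [cB : ∀ i, CommRing (B i)]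
  res : ∀ {i i' : I}, i ≤ i' → (B i →+* B i')
  res_id : ∀ (i : I) (x : B i), res (le_refl i) x = x
  res_comp : ∀ {i i' i'' : I} (h : i ≤ i') (h' : i' ≤ i'') (x : B i),
    res h' (res h x) = res (h.trans h') x
  σ : ∀ i, B i →+* Bl
  σ_res : ∀ {i i' : I} (h : i ≤ i') (x : B i), σ i' (res h x) = σ i x
  surj : ∀ s : Bl, ∃ (i : I) (t : B i), σ i t = s
  inj : ∀ (i : I) (t : B i), σ i t = 0 → ∃ (i' : I) (h : i ≤ i'), res h t = 0
  m : ℕ
  g : Fin m → R
  f : ∀ i, Fin m → B i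
  f_res : ∀ {i i' : I} (h : i ≤ i') (j : Fin m), res h (f i j) = f i' j
  σ_f : ∀ (i : I) (j : Fin m), σ i (f i j) = ρ (g j)
  ker : ∀ j, KerTorsion ρ (g j)
  ext : ∀ j, ExtendsPow ρ (g j)
  S : I → Fin m → Type u
  [cS : ∀ i j, CommRing (S i j)]
  [aS : ∀ i j, Algebra (B i) (S i j)]
  loc : ∀ i j, IsLocalization.Away (f i j) (S i j)
  fg : ∀ i j, Algebra.FiniteType ℤ (S i j)

namespace FibSys

attribute [instance] cR cBl cB cS aS

variable {I : Type u} [Preorder I] (F : FibSys I)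

/-- The fibre product at level `i`. -/
def fib (i : I) : Subalgebra ℤ (F.R × F.B i) := fibProd F.ρ (F.σ i)

/-- The transition maps between the products. -/
def tr {i i' : I} (h : i ≤ i') : F.R × F.B i →ₐ[ℤ] F.R × F.B i' :=
  (RingHom.prodMap (RingHom.id F.R) (F.res h)).toIntAlgHom

@[simp] lemma tr_apply {i i' : I} (h : i ≤ i') (x : F.R × F.B i) :
    F.tr h x = (x.1, F.res h x.2) := rfl

lemma tr_refl (i : I) (x : F.R × F.B i) : F.tr (le_refl i) x = x := by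
  rw [tr_apply, F.res_id]

lemma tr_trans {i i' i'' : I} (h : i ≤ i') (h' : i' ≤ i'') (x : F.R × F.B i) :
    F.tr h' (F.tr h x) = F.tr (h.trans h') x := by
  simp only [tr_apply, F.res_comp]

lemma tr_mem_fib {i i' : I} (h : i ≤ i') {x : F.R × F.B i} (hx : x ∈ F.fib i) :
    F.tr h x ∈ F.fib i' := by
  change F.ρ x.1 = F.σ i' (F.res h x.2)
  rw [F.σ_res]
  exact hx

lemma map_fib_le {i i' : I} (h : i ≤ i') {A : Subalgebra ℤ (F.R × F.B i)} (hA : A ≤ F.fib i) :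
    A.map (F.tr h) ≤ F.fib i' := by
  rintro _ ⟨x, hx, rfl⟩
  exact F.tr_mem_fib h (hA hx)

/-- The distinguished elements `(g j, f i j)`. -/
def hh (i : I) (j : Fin F.m) : F.R × F.B i := (F.g j, F.f i j)

lemma hh_mem (i : I) (j : Fin F.m) : F.hh i j ∈ F.fib i := (F.σ_f i j).symm

lemma tr_hh {i i' : I} (h : i ≤ i') (j : Fin F.m) : F.tr h (F.hh i j) = F.hh i' j := by
  rw [tr_apply]
  exact Prod.ext rfl (F.f_res h j)

/-- Good subalgebras: finitely generated, inside the fibre product, containing the `hh`,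
and generating the localizations. -/
def Good (i : I) (A : Subalgebra ℤ (F.R × F.B i)) : Prop :=
  A.FG ∧ A ≤ F.fib i ∧ (∀ j, F.hh i j ∈ A) ∧
    ∀ (j : Fin F.m) (x : F.S i j), ∃ (n : ℕ) (a : F.R × F.B i), a ∈ A ∧
      algebraMap (F.B i) (F.S i j) a.2 = algebraMap (F.B i) (F.S i j) (F.f i j) ^ n * x

lemma Good.mono {i : I} {A A' : Subalgebra ℤ (F.R × F.B i)} (hA : F.Good i A) (hle : A ≤ A')
    (hfg : A'.FG) (hfib : A' ≤ F.fib i) : F.Good i A' :=
  ⟨hfg, hfib, fun j => hle (hA.2.2.1 j), fun j x => by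
    obtain ⟨n, a, ha, h⟩ := hA.2.2.2 j x
    exact ⟨n, a, hle ha, h⟩⟩

lemma exists_lift (i : I) (j : Fin F.m) (s : F.S i j) :
    ∃ (n : ℕ) (e : F.R × F.B i), e ∈ F.fib i ∧
      algebraMap (F.B i) (F.S i j) e.2 = algebraMap (F.B i) (F.S i j) (F.f i j) ^ n * s := by
  have := F.loc i j
  obtain ⟨n, β, hβ⟩ := IsLocalization.Away.surj (F.f i j) s
  obtain ⟨n', e, he, he2⟩ := exists_mem_fibProd_snd (ρ := F.ρ) (σ := F.σ i) (g := F.g j)
    (f := F.f i j) (F.σ_f i j).symm (F.ext j) β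
  refine ⟨n' + n, e, he, ?_⟩
  rw [he2, map_mul, map_pow, ← hβ, pow_add]
  ring

lemma exists_good (i : I) (A₀ : Subalgebra ℤ (F.R × F.B i)) (hfg : A₀.FG) (hle : A₀ ≤ F.fib i) :
    ∃ A, A₀ ≤ A ∧ F.Good i A := by
  classical
  have hT : ∀ j, ∃ T : Finset (F.S i j), Algebra.adjoin ℤ (T : Set (F.S i j)) = ⊤ :=
    fun j => (F.fg i j).out
  choose T hT using hT
  choose n e he he2 using F.exists_lift i
  let E : Set (F.R × F.B i) := (⋃ j, (e j) '' (T j : Set (F.S i j))) ∪ Set.range (F.hh i)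
  have hEfin : E.Finite :=
    (Set.finite_iUnion fun j => (T j).finite_toSet.image _).union (Set.finite_range _)
  have hEfib : E ⊆ F.fib i := by
    rintro x (hx | ⟨j, rfl⟩)
    · obtain ⟨j, s, -, rfl⟩ := Set.mem_iUnion.mp hx
      exact he j s
    · exact F.hh_mem i j
  refine ⟨A₀ ⊔ Algebra.adjoin ℤ E, le_sup_left, ?_, ?_, ?_, ?_⟩
  · exact hfg.sup (Subalgebra.fg_def.mpr ⟨E, hEfin, rfl⟩)
  · exact sup_le hle (Algebra.adjoin_le hEfib)
  · intro j
    exact (le_sup_right : Algebra.adjoin ℤ E ≤ _) (Algebra.subset_adjoin (Or.inr ⟨j, rfl⟩))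
  · intro j x
    set A := A₀ ⊔ Algebra.adjoin ℤ E with hA
    have hhA : F.hh i j ∈ A :=
      (le_sup_right : Algebra.adjoin ℤ E ≤ _) (Algebra.subset_adjoin (Or.inr ⟨j, rfl⟩))
    have hx : x ∈ Algebra.adjoin ℤ (T j : Set (F.S i j)) := by rw [hT j]; trivial
    induction hx using Algebra.adjoin_induction with
    | mem s hs =>
      refine ⟨n j s, e j s, ?_, he2 j s⟩
      exact (le_sup_right : Algebra.adjoin ℤ E ≤ _)
        (Algebra.subset_adjoin (Or.inl (Set.mem_iUnion.mpr ⟨j, s, hs, rfl⟩)))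
    | algebraMap z =>
      refine ⟨0, algebraMap ℤ _ z, Subalgebra.algebraMap_mem _ z, ?_⟩
      simp
    | add x y _ _ hx hy =>
      obtain ⟨n₁, a₁, ha₁, h₁⟩ := hx
      obtain ⟨n₂, a₂, ha₂, h₂⟩ := hy
      refine ⟨n₁ + n₂, F.hh i j ^ n₂ * a₁ + F.hh i j ^ n₁ * a₂,
        add_mem (mul_mem (pow_mem hhA _) ha₁) (mul_mem (pow_mem hhA _) ha₂), ?_⟩
      simp only [Prod.snd_add, Prod.snd_mul, Prod.pow_snd, map_add, map_mul, map_pow, h₁, h₂]
      simp only [hh]
      ring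
    | mul x y _ _ hx hy =>
      obtain ⟨n₁, a₁, ha₁, h₁⟩ := hx
      obtain ⟨n₂, a₂, ha₂, h₂⟩ := hy
      refine ⟨n₁ + n₂, a₁ * a₂, mul_mem ha₁ ha₂, ?_⟩
      simp only [Prod.snd_mul, map_mul, h₁, h₂]
      ring

end FibSys

end Groth.Agent.H20.NA
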