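import Mathlib

/-!
# Localizations of subalgebras of a fibre product of rings (helper20)

`R ×_B B'` for `ρ : R → B`, `σ : B' → B`, as a `ℤ`-subalgebra of `R × B'`, and the fact that for
`h = (g, f)` with `R_g ≅ B_{ρ g}`, subalgebras of the fibre product containing `h` localize at `h`
onto `B'_f` as soon as they do so surjectively (Stacks 01Z3 in elementwise form).
-/

set_option autoImplicit false
universe u

namespace Groth.Agent.H20.NA

variable {R B B' : Type*} [CommRing R] [CommRing B] [CommRing B'] (ρ : R →+* B) (σ : B' →+* B)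

/-- The fibre product `R ×_B B'` as a `ℤ`-subalgebra of `R × B'`. -/
def fibProd : Subalgebra ℤ (R × B') where
  carrier := {t | ρ t.1 = σ t.2}
  mul_mem' := fun {a b} ha hb => by
    change ρ (a * b).1 = σ (a * b).2
    rw [Prod.fst_mul, Prod.snd_mul, map_mul, map_mul, ha, hb]
  add_mem' := fun {a b} ha hb => by
    change ρ (a + b).1 = σ (a + b).2
    rw [Prod.fst_add, Prod.snd_add, map_add, map_add, ha, hb]
  algebraMap_mem' := fun n => by
    change ρ (algebraMap ℤ (R × B') n).1 = σ (algebraMap ℤ (R × B') n).2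
    simp

variable {ρ σ}

lemma mem_fibProd {t : R × B'} : t ∈ fibProd ρ σ ↔ ρ t.1 = σ t.2 := Iff.rfl

/-- `ker ρ` is `g`-power torsion. -/
def KerTorsion (ρ : R →+* B) (g : R) : Prop := ∀ r : R, ρ r = 0 → ∃ n : ℕ, g ^ n * r = 0

/-- Every element of `B` extends to `R` after multiplication by a power of `g`. -/
def ExtendsPow (ρ : R →+* B) (g : R) : Prop := ∀ β : B, ∃ (n : ℕ) (r : R), ρ r = ρ g ^ n * β

lemma exists_mem_fibProd_snd {g : R} {f : B'} (hgf : ρ g = σ f) (hs : ExtendsPow ρ g) (β' : B') :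
    ∃ (n : ℕ) (e : R × B'), e ∈ fibProd ρ σ ∧ e.2 = f ^ n * β' := by
  obtain ⟨n, r, hr⟩ := hs (σ β')
  refine ⟨n, (r, f ^ n * β'), mem_fibProd.mpr ?_, rfl⟩
  simp [hr, hgf]

/-- Subalgebras of the fibre product localize at `h = (g, f)` to `B'_f` once they do so
surjectively. -/
theorem isLocalization_away_of_le_fibProd (A : Subalgebra ℤ (R × B')) (hA : A ≤ fibProd ρ σ)
    (h : A) (hker : KerTorsion ρ (h : R × B').1)
    {S : Type*} [CommRing S] [Algebra B' S] [IsLocalization.Away (h : R × B').2 S]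
    (hs : ∀ x : S, ∃ (n : ℕ) (a : A),
      algebraMap B' S (a : R × B').2 = algebraMap B' S (h : R × B').2 ^ n * x) :
    letI : Algebra A S :=
      ((algebraMap B' S).comp ((RingHom.snd R B').comp A.val.toRingHom)).toAlgebra
    IsLocalization.Away h S := by
  let _ : Algebra A S :=
    ((algebraMap B' S).comp ((RingHom.snd R B').comp A.val.toRingHom)).toAlgebra
  have halg : ∀ a : A, algebraMap A S a = algebraMap B' S (a : R × B').2 := fun a => rfl
  have hunit : IsUnit (algebraMap B' S (h : R × B').2) :=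
    IsLocalization.Away.algebraMap_isUnit _
  rw [IsLocalization.Away, isLocalization_iff]
  refine ⟨?_, ?_, ?_⟩
  · rintro ⟨y, n, rfl⟩
    change IsUnit (algebraMap A S (h ^ n))
    rw [map_pow, halg]
    exact hunit.pow n
  · intro z
    obtain ⟨n, a, ha⟩ := hs z
    refine ⟨(a, ⟨h ^ n, n, rfl⟩), ?_⟩
    change z * algebraMap A S (h ^ n) = algebraMap A S a
    rw [map_pow, halg, halg, ha, mul_comm]
  · intro x y hxy
    rw [halg, halg] at hxy
    obtain ⟨⟨c, m, rfl⟩, hc⟩ :=
      IsLocalization.exists_of_eq (M := Submonoid.powers (h : R × B').2) (S := S) hxy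
    -- d = x - y
    have hd2 : (h : R × B').2 ^ m * ((x : R × B').2 - (y : R × B').2) = 0 := by
      rw [mul_sub, sub_eq_zero]; exact hc
    have hmem : ((h ^ m * (x - y) : A) : R × B') ∈ fibProd ρ σ := hA (h ^ m * (x - y)).2
    have h1 : ρ ((h : R × B').1 ^ m * ((x : R × B').1 - (y : R × B').1)) = 0 := by
      have := mem_fibProd.mp hmem
      simp only [Subalgebra.coe_mul, Subalgebra.coe_pow, Subalgebra.coe_sub, Prod.fst_mul,
        Prod.pow_fst, Prod.fst_sub, Prod.snd_mul, Prod.pow_snd, Prod.snd_sub] at this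
      rw [this, hd2, map_zero]
    obtain ⟨n, hn⟩ := hker _ h1
    refine ⟨⟨h ^ (n + m), n + m, rfl⟩, ?_⟩
    rw [← sub_eq_zero, ← mul_sub]
    apply Subtype.ext
    apply Prod.ext
    · simp only [Subalgebra.coe_mul, Subalgebra.coe_pow, Subalgebra.coe_sub, Prod.fst_mul,
        Prod.pow_fst, Prod.fst_sub, Subalgebra.coe_zero, Prod.fst_zero]
      rw [pow_add, mul_assoc, hn]
    · simp only [Subalgebra.coe_mul, Subalgebra.coe_pow, Subalgebra.coe_sub, Prod.snd_mul,
        Prod.pow_snd, Prod.snd_sub, Subalgebra.coe_zero, Prod.snd_zero]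
      rw [pow_add, mul_assoc, hd2, mul_zero]

end Groth.Agent.H20.NA
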