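import Groth.Agent.H20.NA.SepFP
import Groth.Agent.H24.LimitFiniteBase

/-!
# Finite morphisms embed into finite finitely presented ones
-/

set_option autoImplicit false
set_option linter.unusedSectionVars false
universe u
open CategoryTheory CategoryTheory.Limits AlgebraicGeometry TopologicalSpace Opposite

namespace Groth.Agent.H20.NA

open Groth.Agent.H20.ClosedLimit

/-- Stage-level statement: if `X → X₁` is a closed immersion into a qcqs scheme, `X₁ → S` is locally
of finite type and the composite `X → S` is integral, then some finitely presented closed subscheme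
of `X₁` containing `X` is finite over `S`. -/
theorem exists_stage_isFinite {X X₁ S : Scheme.{u}} (j₁ : X ⟶ X₁) (f₁ : X₁ ⟶ S)
    [IsClosedImmersion j₁] [CompactSpace X₁] [QuasiSeparatedSpace X₁] [LocallyOfFiniteType f₁]
    [CompactSpace S] [QuasiSeparatedSpace S] [IsIntegralHom (j₁ ≫ f₁)] :
    ∃ i : Idx j₁, IsFinite (i.1.subschemeι ≫ f₁) := by
  have hne : Nonempty (Idx j₁) := inferInstance
  let i₀ : (Idx j₁)ᵒᵖ := op hne.some
  have hfin : ∀ {i j : (Idx j₁)ᵒᵖ} (a : i ⟶ j), IsFinite ((schemeDiagram j₁).map a) :=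
    fun a => inferInstance
  have hlft : ∀ i, LocallyOfFiniteType
      (Groth.Agent.H24.strMap (schemeDiagram j₁) (schemeStr j₁ f₁) i) := by
    intro i
    change LocallyOfFiniteType (i.unop.1.subschemeι ≫ f₁)
    infer_instance
  have hint : IsIntegralHom ((schemeCone j₁).π.app i₀ ≫
      Groth.Agent.H24.strMap (schemeDiagram j₁) (schemeStr j₁ f₁) i₀) := by
    have e : (toSub j₁ i₀.unop : X ⟶ i₀.unop.1.subscheme) ≫ (i₀.unop.1.subschemeι ≫ f₁) =
        j₁ ≫ f₁ := by
      rw [toSub_ι_assoc]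
    change IsIntegralHom ((toSub j₁ i₀.unop : X ⟶ i₀.unop.1.subscheme) ≫
      (i₀.unop.1.subschemeι ≫ f₁))
    rw [e]
    infer_instance
  obtain ⟨i, hi⟩ := Groth.Agent.H24.exists_isFinite_app (schemeDiagram j₁) (schemeStr j₁ f₁)
    (schemeCone j₁) (isLimitSchemeCone j₁) i₀
  exact ⟨i.unop, hi⟩

theorem exists_finite_fp {X S : Scheme.{u}} (f : X ⟶ S) [IsFinite f]
    [CompactSpace S] [QuasiSeparatedSpace S] :
    ∃ (X' : Scheme.{u}) (f' : X' ⟶ S) (j : X ⟶ X'), IsFinite f' ∧
      LocallyOfFinitePresentation f' ∧ IsClosedImmersion j ∧ j ≫ f' = f := by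
  have hcX : CompactSpace X := QuasiCompact.compactSpace_of_compactSpace f
  have hqsX : QuasiSeparatedSpace X := quasiSeparatedSpace_of_quasiSeparated f
  obtain ⟨X₁, f₁, j₁, h1, h2, h3, h4, h5, h6, h7⟩ := exists_closedImmersion_fp f
  have hint : IsIntegralHom (j₁ ≫ f₁) := by rw [h5]; infer_instance
  obtain ⟨i, hi⟩ := exists_stage_isFinite j₁ f₁
  have hfp : LocallyOfFinitePresentation i.1.subschemeι :=
    Groth.Agent.H20.IdealFP.locallyOfFinitePresentation_subschemeι _ i.2.2
  refine ⟨i.1.subscheme, i.1.subschemeι ≫ f₁, toSub j₁ i, hi, inferInstance, ?_, ?_⟩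
  · have : IsClosedImmersion (toSub j₁ i ≫ i.1.subschemeι) := by
      rw [toSub_ι]; infer_instance
    exact IsClosedImmersion.of_comp _ i.1.subschemeι
  · rw [toSub_ι_assoc, h5]

end Groth.Agent.H20.NA
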