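import Groth.Agent.H20.NA.ImmMain
import Groth.Agent.H20.NA.Absolute

/-!
# Immersion into a finitely presented scheme (helper20, Stacks 09ZP)
-/

set_option autoImplicit false
universe u
open CategoryTheory CategoryTheory.Limits AlgebraicGeometry Opposite TopologicalSpace

namespace Groth.Agent.H20.NA

theorem exists_immersion_fp {X S : Scheme.{u}} (f : X ⟶ S) [LocallyOfFiniteType f]
    [CompactSpace X] [QuasiSeparatedSpace X] :
    ∃ (X' : Scheme.{u}) (f' : X' ⟶ S) (j : X ⟶ X'), LocallyOfFinitePresentation f' ∧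
      QuasiCompact f' ∧ QuasiSeparated f' ∧ IsImmersion j ∧ j ≫ f' = f := by
  obtain ⟨I, _, _, _, D, c, hc, haff, hft, ⟨e⟩⟩ := exists_absolute X
  haveI : ∀ {i j : Iᵒᵖ} (g : i ⟶ j), IsAffineHom (D.map g) := fun g => haff _ _ g
  haveI : ∀ i, CompactSpace (D.obj i) := fun i => (hft i).1
  haveI : LocallyOfFiniteType (e.hom ≫ f) := inferInstance
  obtain ⟨i, hi⟩ := exists_isImmersion_jmap D c hc (e.hom ≫ f)
  haveI := (hft i).2
  haveI : IsNoetherian (D.obj i) := isNoetherian_of_ft _
  have h1 : LocallyOfFinitePresentation (specULiftZIsTerminal.from (D.obj i)) :=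
    LocallyOfFinitePresentation.iff_locallyOfFiniteType.mpr inferInstance
  have h2 : QuasiCompact (specULiftZIsTerminal.from (D.obj i)) := inferInstance
  have h3 : QuasiSeparated (specULiftZIsTerminal.from (D.obj i)) := inferInstance
  refine ⟨PS D (S := S) i, pullback.snd _ _, e.inv ≫ jmap D c (e.hom ≫ f) i,
    inferInstance, inferInstance, inferInstance, inferInstance, ?_⟩
  rw [Category.assoc, jmap_snd, Iso.inv_hom_id_assoc]

end Groth.Agent.H20.NA
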