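import Mathlib

/-!
# Closed immersions out of an affine chart of a limit at a finite stage (helper20)
-/

set_option autoImplicit false
universe u
open CategoryTheory CategoryTheory.Limits AlgebraicGeometry Opposite TopologicalSpace

namespace Groth.Agent.H20.NA

variable {J : Type u} [SmallCategory J] [IsCofiltered J]
  (D : J ⥤ Scheme.{u}) [∀ {i j : J} (f : i ⟶ j), IsAffineHom (D.map f)]
  (c : Cone D) (hc : IsLimit c)

set_option backward.isDefEq.respectTransparency false in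
include hc in
/-- Stacks 09ZP, affine core: an affine chart `V = π⁻¹ V'` of the limit with a finite type
map to an affine scheme `U` is, at some later stage, generated over `U` by the stage. -/
theorem exists_generated (i : J) (V' : (D.obj i).Opens) (hV' : IsAffineOpen V')
    {U : Scheme.{u}} [IsAffine U]
    (fU : ((c.π.app i ⁻¹ᵁ V' : c.pt.Opens) : Scheme.{u}) ⟶ U) [LocallyOfFiniteType fU] :
    ∃ φ : Over i, ∀ (W : Scheme.{u}) [IsAffine W]
      (r : ((c.π.app i ⁻¹ᵁ V' : c.pt.Opens) : Scheme.{u}) ⟶ W)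
      (a : W ⟶ (opensDiagram D i V').obj φ) (b : W ⟶ U),
      r ≫ a = (opensCone D c i V').π.app φ → r ≫ b = fU → IsClosedImmersion r := by
  classical
  have hA : ∀ j : Over i, IsAffine ((opensDiagram D i V').obj j) := fun j => hV'.preimage _
  have hπ := isAffineHom_π_app D c hc
  have hpt : IsAffine ((c.π.app i ⁻¹ᵁ V' : c.pt.Opens) : Scheme.{u}) := hV'.preimage (c.π.app i)
  have hft : RingHom.FiniteType fU.appTop.hom :=
    (HasRingHomProperty.iff_of_isAffine (P := @LocallyOfFiniteType)).mp inferInstance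
  let _ := fU.appTop.hom.toAlgebra
  obtain ⟨t, ht⟩ : ∃ t : Finset Γ(((c.π.app i ⁻¹ᵁ V' : c.pt.Opens) : Scheme.{u}), ⊤),
      Algebra.adjoin Γ(U, ⊤) (t : Set Γ(((c.π.app i ⁻¹ᵁ V' : c.pt.Opens) : Scheme.{u}), ⊤)) = ⊤ :=
    hft.out
  choose φ' t' ht' using fun h : t =>
    exists_appTop_π_eq_of_isAffine_of_isLimit (opensDiagram D i V') (opensCone D c i V')
      (isLimitOpensCone D c hc i V') h.1
  obtain ⟨φ, fφ⟩ := IsCofiltered.inf_objs_exists (Finset.univ.image φ')
  replace fφ : ∀ h : t, φ ⟶ φ' h := fun h => (fφ (by simp)).some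
  refine ⟨φ, fun W _ r a b hra hrb => ?_⟩
  refine IsClosedImmersion.of_surjective_of_isAffine r fun x => ?_
  have hx : x ∈ Algebra.adjoin Γ(U, ⊤)
      (t : Set Γ(((c.π.app i ⁻¹ᵁ V' : c.pt.Opens) : Scheme.{u}), ⊤)) := by rw [ht]; trivial
  induction hx using Algebra.adjoin_induction with
  | mem s hs =>
    refine ⟨a.appTop.hom (((opensDiagram D i V').map (fφ ⟨s, hs⟩)).appTop.hom (t' ⟨s, hs⟩)), ?_⟩
    have h1 : a.appTop ≫ r.appTop = ((opensCone D c i V').π.app φ).appTop :=
      (Scheme.Hom.comp_appTop r a).symm.trans (congrArg Scheme.Hom.appTop hra)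
    have h2 := (opensCone D c i V').w (fφ ⟨s, hs⟩)
    have h3 : ((opensDiagram D i V').map (fφ ⟨s, hs⟩)).appTop ≫
          ((opensCone D c i V').π.app φ).appTop =
        ((opensCone D c i V').π.app (φ' ⟨s, hs⟩)).appTop :=
      (Scheme.Hom.comp_appTop _ _).symm.trans (congrArg Scheme.Hom.appTop h2)
    have h4 : ((opensCone D c i V').π.app (φ' ⟨s, hs⟩)).appTop.hom (t' ⟨s, hs⟩) = s :=
      ht' ⟨s, hs⟩
    have h5 : ((opensDiagram D i V').map (fφ ⟨s, hs⟩)).appTop ≫ a.appTop ≫ r.appTop =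
        ((opensCone D c i V').π.app (φ' ⟨s, hs⟩)).appTop := by
      rw [h1]
      exact h3
    exact (congrArg (fun ψ => ψ.hom (t' ⟨s, hs⟩)) h5).trans h4
  | algebraMap z =>
    refine ⟨b.appTop.hom z, ?_⟩
    have h1 : b.appTop ≫ r.appTop = fU.appTop :=
      (Scheme.Hom.comp_appTop r b).symm.trans (congrArg Scheme.Hom.appTop hrb)
    change r.appTop.hom (b.appTop.hom z) = fU.appTop.hom z
    rw [← h1]
    rfl
  | add x y _ _ hx hy =>
    obtain ⟨x', rfl⟩ := hx
    obtain ⟨y', rfl⟩ := hy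
    exact ⟨x' + y', map_add _ _ _⟩
  | mul x y _ _ hx hy =>
    obtain ⟨x', rfl⟩ := hx
    obtain ⟨y', rfl⟩ := hy
    exact ⟨x' * y', map_mul _ _ _⟩

end Groth.Agent.H20.NA
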