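import Groth.Agent.H20.NA.ImmStage

/-!
# `X ⟶ X_i × S` is an immersion for some `i` (helper20, Stacks 09ZP)
-/

set_option autoImplicit false
universe u
open CategoryTheory CategoryTheory.Limits AlgebraicGeometry Opposite TopologicalSpace

namespace Groth.Agent.H20.NA

variable {J : Type u} [SmallCategory J] [IsCofiltered J]
  (D : J ⥤ Scheme.{u}) [∀ {i j : J} (f : i ⟶ j), IsAffineHom (D.map f)]
  [∀ i, CompactSpace (D.obj i)]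
  (c : Cone D) (hc : IsLimit c) {S : Scheme.{u}} (f : c.pt ⟶ S) [LocallyOfFiniteType f]

include hc in
theorem exists_isImmersion_jmap : ∃ i : J, IsImmersion (jmap D c f i) := by
  classical
  haveI : CompactSpace c.pt := Scheme.compactSpace_of_isLimit D c hc
  have hA : ∀ x : c.pt, ∃ (i : J) (V' : (D.obj i).Opens) (U : S.Opens), IsAffineOpen V' ∧
      IsAffineOpen U ∧ x ∈ c.π.app i ⁻¹ᵁ V' ∧ c.π.app i ⁻¹ᵁ V' ≤ f ⁻¹ᵁ U := by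
    intro x
    obtain ⟨_, ⟨U, hU, rfl⟩, hxU, -⟩ := S.isBasis_affineOpens.exists_subset_of_mem_open
      (Set.mem_univ (f x)) isOpen_univ
    obtain ⟨_, ⟨i, V', hV', rfl⟩, hxV, hVU⟩ :=
      (Opens.isBasis_iff_nbhd.mp (isBasis_preimage_isAffineOpen D c hc))
        (show x ∈ (f ⁻¹ᵁ U : c.pt.Opens) from hxU)
    exact ⟨i, V', U, hV', hU, hxV, hVU⟩
  choose ix Vx Ux hVx hUx hxV hVU using hA
  obtain ⟨σ, hσ⟩ := CompactSpace.elim_nhds_subcover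
    (fun x => ((c.π.app (ix x) ⁻¹ᵁ Vx x : c.pt.Opens) : Set c.pt))
    (fun x => IsOpen.mem_nhds (X := c.pt)
      (show IsOpen ((c.π.app (ix x) ⁻¹ᵁ Vx x : c.pt.Opens) : Set c.pt) from
        (c.π.app (ix x) ⁻¹ᵁ Vx x : c.pt.Opens).2) (hxV x))
  obtain ⟨i₀, fi⟩ := IsCofiltered.inf_objs_exists (σ.image ix)
  replace fi : ∀ x ∈ σ, i₀ ⟶ ix x := fun x hx => (fi (Finset.mem_image_of_mem ix hx)).some
  let V₀ : σ → (D.obj i₀).Opens := fun x => D.map (fi x.1 x.2) ⁻¹ᵁ Vx x.1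
  have hV₀ : ∀ x : σ, IsAffineOpen (V₀ x) := fun x => (hVx x.1).preimage _
  have hV₀e : ∀ x : σ, c.π.app i₀ ⁻¹ᵁ V₀ x = c.π.app (ix x.1) ⁻¹ᵁ Vx x.1 := fun x => by
    rw [← Scheme.Hom.comp_preimage, Cone.w]
  have hle : ∀ x : σ, c.π.app i₀ ⁻¹ᵁ V₀ x ≤ f ⁻¹ᵁ Ux x.1 := fun x =>
    (hV₀e x).le.trans (hVU x.1)
  have hG : ∀ x : σ, ∃ φ : Over i₀, ∀ (W : Scheme.{u}) [IsAffine W]
      (r : ((c.π.app i₀ ⁻¹ᵁ V₀ x : c.pt.Opens) : Scheme.{u}) ⟶ W)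
      (a : W ⟶ (opensDiagram D i₀ (V₀ x)).obj φ) (b : W ⟶ (Ux x.1 : Scheme.{u})),
      r ≫ a = (opensCone D c i₀ (V₀ x)).π.app φ →
        r ≫ b = f.resLE (Ux x.1) (c.π.app i₀ ⁻¹ᵁ V₀ x) (hle x) → IsClosedImmersion r := by
    intro x
    haveI : IsAffine (Ux x.1 : Scheme.{u}) := hUx x.1
    haveI : LocallyOfFiniteType (f.resLE (Ux x.1) (c.π.app i₀ ⁻¹ᵁ V₀ x) (hle x)) := by
      have : LocallyOfFiniteType (f.resLE (Ux x.1) (c.π.app i₀ ⁻¹ᵁ V₀ x) (hle x) ≫ (Ux x.1).ι) := by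
        rw [Scheme.Hom.resLE_comp_ι]
        infer_instance
      exact locallyOfFiniteType_of_comp _ (Ux x.1).ι
    exact exists_generated D c hc i₀ (V₀ x) (hV₀ x) _
  choose φx hφx using hG
  obtain ⟨φ, gφ⟩ := IsCofiltered.inf_objs_exists (Finset.univ.image φx)
  replace gφ : ∀ x : σ, φ ⟶ φx x := fun x => (gφ (by simp)).some
  have hcl : ∀ x : σ, IsClosedImmersion
      (jmap D c f φ.left ∣_ chartPS D φ.left (D.map φ.hom ⁻¹ᵁ V₀ x) (Ux x.1)) := fun x =>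
    chart_isClosedImmersion D c f i₀ (V₀ x) (hV₀ x) (Ux x.1) (hUx x.1) (hle x) (φx x) (hφx x) φ
      (gφ x)
  refine ⟨φ.left, ?_⟩
  refine Groth.Agent.H24.isImmersion_of_isClosedImmersion_morphismRestrict _
    (⨆ x : σ, chartPS D φ.left (D.map φ.hom ⁻¹ᵁ V₀ x) (Ux x.1)) ?_
    (prop_morphismRestrict_iSup @IsClosedImmersion _ _ hcl)
  rw [Scheme.Hom.preimage_iSup, eq_top_iff]
  intro y _
  have hy : y ∈ ⋃ x ∈ σ, ((c.π.app (ix x) ⁻¹ᵁ Vx x : c.pt.Opens) : Set c.pt) := by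
    rw [hσ]; trivial
  obtain ⟨x, hx⟩ := Set.mem_iUnion.mp hy
  obtain ⟨hxσ, hyx⟩ := Set.mem_iUnion.mp hx
  refine Opens.mem_iSup.mpr ⟨⟨x, hxσ⟩, ?_⟩
  rw [jmap_preimage_chartPS D c f i₀ _ _ (hle ⟨x, hxσ⟩) φ, hV₀e]
  exact hyx

end Groth.Agent.H20.NA
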