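import Groth.Agent.H20.NA.ImmGen
import Groth.Agent.H24.LimitImm

/-!
# `X ⟶ X_i × S` is an immersion for large `i` (helper20, Stacks 09ZP)
-/

set_option autoImplicit false
universe u
open CategoryTheory CategoryTheory.Limits AlgebraicGeometry Opposite TopologicalSpace

namespace Groth.Agent.H20.NA

section Restrict

theorem prop_morphismRestrict_iSup (P : MorphismProperty Scheme.{u}) [IsZariskiLocalAtTarget P]
    {X Y : Scheme.{u}} (f : X ⟶ Y) {ι : Type*} (O : ι → Y.Opens) (h : ∀ i, P (f ∣_ O i)) :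
    P (f ∣_ ⨆ i, O i) := by
  have hU : ⨆ i, (⨆ i, O i).ι ⁻¹ᵁ O i = ⊤ := by
    rw [← Scheme.Hom.preimage_iSup]
    exact Scheme.Opens.ι_preimage_self _
  refine (IsZariskiLocalAtTarget.iff_of_iSup_eq_top (P := P) _ hU).mpr fun i => ?_
  rw [MorphismProperty.arrow_mk_iso_iff P (morphismRestrictRestrict f _ _)]
  have e : (⨆ i, O i).ι ''ᵁ ((⨆ i, O i).ι ⁻¹ᵁ O i) = O i := by
    rw [Scheme.Hom.image_preimage_eq_opensRange_inf, Scheme.Opens.opensRange_ι]
    exact inf_eq_right.mpr (le_iSup O i)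
  rw [MorphismProperty.arrow_mk_iso_iff P (morphismRestrictEq f e)]
  exact h i

end Restrict

section Stage

variable {J : Type u} [SmallCategory J] [IsCofiltered J]
  (D : J ⥤ Scheme.{u}) [∀ {i j : J} (f : i ⟶ j), IsAffineHom (D.map f)]
  (c : Cone D) (hc : IsLimit c) {S : Scheme.{u}} (f : c.pt ⟶ S)

/-- The base changes `X_i × S`. -/
noncomputable abbrev PS (i : J) : Scheme.{u} :=
  pullback (specULiftZIsTerminal.from (D.obj i)) (specULiftZIsTerminal.from S)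

/-- The maps `X ⟶ X_i × S`. -/
noncomputable def jmap (i : J) : c.pt ⟶ PS D (S := S) i :=
  pullback.lift (c.π.app i) f (specULiftZIsTerminal.hom_ext _ _)

@[reassoc (attr := simp)]
lemma jmap_fst (i : J) : jmap D c f i ≫ pullback.fst _ _ = c.π.app i := pullback.lift_fst _ _ _

@[reassoc (attr := simp)]
lemma jmap_snd (i : J) : jmap D c f i ≫ pullback.snd _ _ = f := pullback.lift_snd _ _ _

/-- The chart `V × U` of `X_i × S`. -/
noncomputable def chartPS (i : J) (A : (D.obj i).Opens) (U : S.Opens) : (PS D (S := S) i).Opens :=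
  pullback.fst (specULiftZIsTerminal.from (D.obj i)) (specULiftZIsTerminal.from S) ⁻¹ᵁ A ⊓
    pullback.snd (specULiftZIsTerminal.from (D.obj i)) (specULiftZIsTerminal.from S) ⁻¹ᵁ U

lemma chartPS_le_fst (i : J) (A : (D.obj i).Opens) (U : S.Opens) :
    chartPS D (S := S) i A U ≤
      pullback.fst (specULiftZIsTerminal.from (D.obj i)) (specULiftZIsTerminal.from S) ⁻¹ᵁ A :=
  inf_le_left

lemma chartPS_le_snd (i : J) (A : (D.obj i).Opens) (U : S.Opens) :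
    chartPS D (S := S) i A U ≤
      pullback.snd (specULiftZIsTerminal.from (D.obj i)) (specULiftZIsTerminal.from S) ⁻¹ᵁ U :=
  inf_le_right

lemma isAffineOpen_chartPS (i : J) (A : (D.obj i).Opens) (hA : IsAffineOpen A) (U : S.Opens)
    (hU : IsAffineOpen U) : IsAffineOpen (chartPS D (S := S) i A U) := by
  have : IsAffine (A : Scheme.{u}) := hA
  have : IsAffine (U : Scheme.{u}) := hU
  let m := pullback.map (A.ι ≫ specULiftZIsTerminal.from (D.obj i))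
    (U.ι ≫ specULiftZIsTerminal.from S) (specULiftZIsTerminal.from (D.obj i))
    (specULiftZIsTerminal.from S) A.ι U.ι (𝟙 _) (by simp) (by simp)
  have hm : m.opensRange = chartPS D (S := S) i A U := by
    apply Opens.ext
    have := Scheme.Pullback.range_map (A.ι ≫ specULiftZIsTerminal.from (D.obj i))
      (U.ι ≫ specULiftZIsTerminal.from S) (specULiftZIsTerminal.from (D.obj i))
      (specULiftZIsTerminal.from S) A.ι U.ι (𝟙 _) (by simp) (by simp)
    rw [Scheme.Opens.range_ι, Scheme.Opens.range_ι] at this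
    exact this
  rw [← hm]
  exact isAffineOpen_opensRange m

lemma jmap_preimage_chartPS (i₀ : J) (V' : (D.obj i₀).Opens) (U : S.Opens)
    (hle : c.π.app i₀ ⁻¹ᵁ V' ≤ f ⁻¹ᵁ U) (φ : Over i₀) :
    jmap D c f φ.left ⁻¹ᵁ chartPS D φ.left (D.map φ.hom ⁻¹ᵁ V') U = c.π.app i₀ ⁻¹ᵁ V' := by
  have h1 : jmap D c f φ.left ⁻¹ᵁ (pullback.fst (specULiftZIsTerminal.from (D.obj φ.left))
      (specULiftZIsTerminal.from S) ⁻¹ᵁ (D.map φ.hom ⁻¹ᵁ V')) = c.π.app i₀ ⁻¹ᵁ V' := by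
    rw [← Scheme.Hom.comp_preimage, jmap_fst, ← Scheme.Hom.comp_preimage, Cone.w]
  have h2 : jmap D c f φ.left ⁻¹ᵁ (pullback.snd (specULiftZIsTerminal.from (D.obj φ.left))
      (specULiftZIsTerminal.from S) ⁻¹ᵁ U) = f ⁻¹ᵁ U := by
    rw [← Scheme.Hom.comp_preimage, jmap_snd]
  rw [chartPS, Scheme.Hom.preimage_inf, h1, h2]
  exact inf_eq_left.mpr hle

theorem chart_isClosedImmersion (i₀ : J) (V' : (D.obj i₀).Opens) (hV' : IsAffineOpen V')
    (U : S.Opens) (hU : IsAffineOpen U) (hle : c.π.app i₀ ⁻¹ᵁ V' ≤ f ⁻¹ᵁ U) (φ₀ : Over i₀)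
    (hφ₀ : ∀ (W : Scheme.{u}) [IsAffine W]
      (r : ((c.π.app i₀ ⁻¹ᵁ V' : c.pt.Opens) : Scheme.{u}) ⟶ W)
      (a : W ⟶ (opensDiagram D i₀ V').obj φ₀) (b : W ⟶ (U : Scheme.{u})),
      r ≫ a = (opensCone D c i₀ V').π.app φ₀ → r ≫ b = f.resLE U (c.π.app i₀ ⁻¹ᵁ V') hle →
        IsClosedImmersion r)
    (φ : Over i₀) (g : φ ⟶ φ₀) :
    IsClosedImmersion (jmap D c f φ.left ∣_ chartPS D φ.left (D.map φ.hom ⁻¹ᵁ V') U) := by
  have e := jmap_preimage_chartPS D c f i₀ V' U hle φ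
  have hO : IsAffineOpen (chartPS D (S := S) φ.left (D.map φ.hom ⁻¹ᵁ V') U) :=
    isAffineOpen_chartPS D φ.left _ (hV'.preimage _) U hU
  have : IsAffine ((chartPS D (S := S) φ.left (D.map φ.hom ⁻¹ᵁ V') U : Opens _) : Scheme.{u}) := hO
  let r : ((c.π.app i₀ ⁻¹ᵁ V' : c.pt.Opens) : Scheme.{u}) ⟶
      ((chartPS D (S := S) φ.left (D.map φ.hom ⁻¹ᵁ V') U : Opens _) : Scheme.{u}) :=
    (jmap D c f φ.left).resLE _ _ e.ge
  let a₁ : ((chartPS D (S := S) φ.left (D.map φ.hom ⁻¹ᵁ V') U : Opens _) : Scheme.{u}) ⟶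
      (opensDiagram D i₀ V').obj φ :=
    Scheme.Hom.resLE (pullback.fst (specULiftZIsTerminal.from (D.obj φ.left))
      (specULiftZIsTerminal.from S)) (D.map φ.hom ⁻¹ᵁ V') _ (chartPS_le_fst D _ _ _)
  let b : ((chartPS D (S := S) φ.left (D.map φ.hom ⁻¹ᵁ V') U : Opens _) : Scheme.{u}) ⟶
      (U : Scheme.{u}) :=
    Scheme.Hom.resLE (pullback.snd (specULiftZIsTerminal.from (D.obj φ.left))
      (specULiftZIsTerminal.from S)) U _ (chartPS_le_snd D _ _ _)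
  have hle' : c.π.app i₀ ⁻¹ᵁ V' ≤ c.π.app φ.left ⁻¹ᵁ (D.map φ.hom ⁻¹ᵁ V') := by
    rw [← Scheme.Hom.comp_preimage, Cone.w]
  have h1 : r ≫ a₁ = (opensCone D c i₀ V').π.app φ := by
    change (jmap D c f φ.left).resLE (chartPS D (S := S) φ.left (D.map φ.hom ⁻¹ᵁ V') U)
        (c.π.app i₀ ⁻¹ᵁ V') e.ge ≫
      Scheme.Hom.resLE (pullback.fst (specULiftZIsTerminal.from (D.obj φ.left))
        (specULiftZIsTerminal.from S)) (D.map φ.hom ⁻¹ᵁ V')
        (chartPS D (S := S) φ.left (D.map φ.hom ⁻¹ᵁ V') U) (chartPS_le_fst D _ _ _) =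
      (c.π.app φ.left).resLE (D.map φ.hom ⁻¹ᵁ V') (c.π.app i₀ ⁻¹ᵁ V') hle'
    rw [← cancel_mono (D.map φ.hom ⁻¹ᵁ V').ι]
    simp only [Category.assoc, Scheme.Hom.resLE_comp_ι, Scheme.Hom.resLE_comp_ι_assoc, jmap_fst]
  have h2 : r ≫ b = f.resLE U (c.π.app i₀ ⁻¹ᵁ V') hle := by
    change (jmap D c f φ.left).resLE (chartPS D (S := S) φ.left (D.map φ.hom ⁻¹ᵁ V') U)
        (c.π.app i₀ ⁻¹ᵁ V') e.ge ≫
      Scheme.Hom.resLE (pullback.snd (specULiftZIsTerminal.from (D.obj φ.left))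
        (specULiftZIsTerminal.from S)) U
        (chartPS D (S := S) φ.left (D.map φ.hom ⁻¹ᵁ V') U) (chartPS_le_snd D _ _ _) = _
    rw [← cancel_mono U.ι]
    simp only [Category.assoc, Scheme.Hom.resLE_comp_ι, Scheme.Hom.resLE_comp_ι_assoc, jmap_snd]
  have hr : IsClosedImmersion r := by
    refine hφ₀ _ r (a₁ ≫ (opensDiagram D i₀ V').map g) b ?_ h2
    rw [← Category.assoc, h1]
    exact (opensCone D c i₀ V').w g
  have h3 := (Scheme.Hom.resLE_congr (f := jmap D c f φ.left) (e := e.ge) rfl e.symm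
    @IsClosedImmersion).mp hr
  rwa [Scheme.Hom.resLE_eq_morphismRestrict] at h3

end Stage

end Groth.Agent.H20.NA
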