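import Groth.Agent.H20.NA.RelApprox

/-!
# The induction for Noetherian approximation (helper20)
-/

set_option autoImplicit false
universe u
open CategoryTheory CategoryTheory.Limits AlgebraicGeometry Opposite

namespace Groth.Agent.H20.NA

/-- The induction step: adding one affine open. -/
def StepStatement : Prop :=
  ∀ (I : Type u) [Preorder I] [IsDirected I (fun a b => a ≤ b)] [Nonempty I]
    (DU : Iᵒᵖ ⥤ Scheme.{u}) (_ : ∀ (i i' : Iᵒᵖ) (f : i ⟶ i'), IsAffineHom (DU.map f))
    (_ : ∀ i, IsFT (DU.obj i)) (cU : Cone DU) (_ : IsLimit cU)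
    (X : Scheme.{u}) [QuasiSeparatedSpace X] (a : cU.pt ⟶ X) [IsOpenImmersion a]
    (R : CommRingCat.{u}) (b : Spec R ⟶ X) [IsOpenImmersion b]
    (_ : Set.range a ∪ Set.range b = Set.univ), Nonempty (RelApprox DU cU a)

theorem exists_relApprox (step : StepStatement.{u}) (S : Scheme.{u}) [CompactSpace S]
    [QuasiSeparatedSpace S] (V : S.Opens) (I : Type u) [Preorder I]
    [IsDirected I (fun a b => a ≤ b)] [Nonempty I]
    (DV : Iᵒᵖ ⥤ Scheme.{u}) (haff : ∀ (i i' : Iᵒᵖ) (a : i ⟶ i'), IsAffineHom (DV.map a))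
    (hft : ∀ i, IsFT (DV.obj i))
    (cV : Cone DV) (hcV : IsLimit cV) (eV : cV.pt ≅ (V : Scheme.{u})) :
    Nonempty (RelApprox DV cV (eV.hom ≫ V.ι)) := by
  let P : S.Opens → Prop := fun W => ∀ (T : S.Opens) (_ : T = V ⊔ W) (hle : V ≤ T),
    Nonempty (RelApprox DV cV (eV.hom ≫ S.homOfLE hle))
  have key : P ⊤ := by
    refine compact_open_induction_on (P := P) (⊤ : S.Opens) isCompact_univ ?_ ?_
    · intro T hT hle
      obtain rfl : T = V := by rw [hT, sup_bot_eq]
      refine ⟨((RelApprox.refl hcV haff hft).ofIso eV).ofEq ?_⟩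
      simp
    · intro W hW U hP T' hT' hle'
      obtain ⟨A⟩ := hP (V ⊔ W) rfl le_sup_left
      have hTT' : V ⊔ W ≤ T' := by rw [hT', ← sup_assoc]; exact le_sup_left
      have hUT' : U.1 ≤ T' := by rw [hT', ← sup_assoc]; exact le_sup_right
      have : QuasiSeparatedSpace (T' : Scheme.{u}) :=
        (isQuasiSeparated_iff_quasiSeparatedSpace _ T'.2).mp (.of_quasiSeparatedSpace _)
      have hcov : Set.range (A.e.hom ≫ S.homOfLE hTT') ∪
          Set.range (U.2.isoSpec.inv ≫ S.homOfLE hUT') = Set.univ := by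
        have ha : (A.e.hom ≫ S.homOfLE hTT').opensRange = (S.homOfLE hTT').opensRange :=
          Scheme.Hom.opensRange_comp_of_isIso _ _
        have hb : (U.2.isoSpec.inv ≫ S.homOfLE hUT').opensRange = (S.homOfLE hUT').opensRange :=
          Scheme.Hom.opensRange_comp_of_isIso _ _
        change ((A.e.hom ≫ S.homOfLE hTT').opensRange : Set (T' : Scheme.{u})) ∪
          ((U.2.isoSpec.inv ≫ S.homOfLE hUT').opensRange : Set (T' : Scheme.{u})) = Set.univ
        rw [ha, hb]
        apply Set.eq_univ_of_forall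
        rintro ⟨x, hx⟩
        have hx' := hx
        rw [hT', ← sup_assoc] at hx'
        rcases hx' with hx' | hx'
        · left
          exact ⟨⟨x, hx'⟩, Scheme.homOfLE_apply' hTT' x hx'⟩
        · right
          exact ⟨⟨x, hx'⟩, Scheme.homOfLE_apply' hUT' x hx'⟩
      obtain ⟨B⟩ := step A.J A.D A.aff A.ft A.c A.hc (T' : Scheme.{u})
        (A.e.hom ≫ S.homOfLE hTT') Γ(S, U.1) (U.2.isoSpec.inv ≫ S.homOfLE hUT') hcov
      refine ⟨(A.trans B).ofEq ?_⟩
      simp
  obtain ⟨A⟩ := key ⊤ (by simp) le_top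
  refine ⟨(A.ofIso S.topIso).ofEq ?_⟩
  simp
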