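import Groth.Agent.H20.NA.OpenImmCrit
import Groth.Agent.H20.NA.FibreLoc

/-!
# Kernel and extension properties for an open immersion into an affine scheme (helper20)
-/

set_option autoImplicit false
universe u
open CategoryTheory CategoryTheory.Limits AlgebraicGeometry Opposite TopologicalSpace

namespace Groth.Agent.H20.NA

variable {Y : Scheme.{u}} {R : CommRingCat.{u}} (ρ : R ⟶ Γ(Y, ⊤))

lemma toSpecOf_appTop : (Scheme.ΓSpecIso R).inv ≫ (toSpecOf ρ).appTop = ρ := by
  rw [toSpecOf, Scheme.Hom.comp_appTop, ← Scheme.ΓSpecIso_inv_naturality_assoc,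
    Scheme.toSpecΓ_appTop, Iso.inv_hom_id, Category.comp_id]

/-- The restriction of `ρ r` to the preimage of an open is the image of `r`. -/
lemma toSpecOf_app_algebraMap (V : (Spec R).Opens) (r : R) :
    ((toSpecOf ρ).app V).hom (algebraMap R Γ(Spec R, V) r) =
      (Y.presheaf.map (homOfLE le_top : toSpecOf ρ ⁻¹ᵁ V ⟶ ⊤).op).hom (ρ.hom r) := by
  have h1 : algebraMap R Γ(Spec R, V) r =
      ((Spec R).presheaf.map (homOfLE le_top : V ⟶ ⊤).op).hom ((Scheme.ΓSpecIso R).inv.hom r) := rfl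
  rw [h1]
  have h2 := (toSpecOf ρ).naturality (homOfLE le_top : V ⟶ ⊤).op
  have h3 : ((toSpecOf ρ).app V).hom (((Spec R).presheaf.map (homOfLE le_top : V ⟶ ⊤).op).hom
      ((Scheme.ΓSpecIso R).inv.hom r)) =
      (Y.presheaf.map (homOfLE le_top : toSpecOf ρ ⁻¹ᵁ V ⟶ ⊤).op).hom
        ((toSpecOf ρ).appTop.hom ((Scheme.ΓSpecIso R).inv.hom r)) := by
    have := congrArg (fun φ => φ.hom ((Scheme.ΓSpecIso R).inv.hom r)) h2
    exact this
  rw [h3]
  congr 1
  have := congrArg (fun φ => φ.hom r) (toSpecOf_appTop ρ)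
  exact this

variable [IsOpenImmersion (toSpecOf ρ)]

set_option backward.isDefEq.respectTransparency.types false in
theorem kerTorsion_of_basicOpen_le (g : R)
    (hg : PrimeSpectrum.basicOpen g ≤ (toSpecOf ρ).opensRange) : KerTorsion ρ.hom g := by
  intro r hr
  have : IsIso ((toSpecOf ρ).app (PrimeSpectrum.basicOpen g)) :=
    (toSpecOf ρ).isIso_app _ hg
  have h1 := toSpecOf_app_algebraMap ρ (PrimeSpectrum.basicOpen g) r
  rw [hr, map_zero] at h1
  have hinj : Function.Injective ((toSpecOf ρ).app (PrimeSpectrum.basicOpen g)).hom :=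
    ((ConcreteCategory.bijective_of_isIso ((toSpecOf ρ).app (PrimeSpectrum.basicOpen g))).1)
  have h2 : algebraMap R Γ(Spec R, PrimeSpectrum.basicOpen g) r = 0 := by
    apply hinj
    rw [h1, map_zero]
  have h3 : algebraMap R Γ(Spec R, PrimeSpectrum.basicOpen g) r =
      algebraMap R Γ(Spec R, PrimeSpectrum.basicOpen g) 0 := by rw [h2, map_zero]
  obtain ⟨⟨_, n, rfl⟩, hc⟩ := IsLocalization.exists_of_eq (M := Submonoid.powers g) h3
  exact ⟨n, by simpa using hc⟩

set_option backward.isDefEq.respectTransparency.types false in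
theorem extendsPow_of_basicOpen_le [CompactSpace Y] (g : R)
    (hg : PrimeSpectrum.basicOpen g ≤ (toSpecOf ρ).opensRange) : ExtendsPow ρ.hom g := by
  intro β
  have : IsIso ((toSpecOf ρ).app (PrimeSpectrum.basicOpen g)) :=
    (toSpecOf ρ).isIso_app _ hg
  have hsurj : Function.Surjective ((toSpecOf ρ).app (PrimeSpectrum.basicOpen g)).hom :=
    ((ConcreteCategory.bijective_of_isIso ((toSpecOf ρ).app (PrimeSpectrum.basicOpen g))).2)
  obtain ⟨s, hs⟩ := hsurj ((Y.presheaf.map (homOfLE le_top :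
    toSpecOf ρ ⁻¹ᵁ PrimeSpectrum.basicOpen g ⟶ ⊤).op).hom β)
  obtain ⟨n, r', hr'⟩ := IsLocalization.Away.surj (S := Γ(Spec R, PrimeSpectrum.basicOpen g)) g s
  -- the difference restricts to zero on the basic open
  have h1 : (Y.presheaf.map (homOfLE le_top :
      toSpecOf ρ ⁻¹ᵁ PrimeSpectrum.basicOpen g ⟶ ⊤).op).hom (ρ.hom g ^ n * β - ρ.hom r') = 0 := by
    rw [map_sub, map_mul, map_pow, ← toSpecOf_app_algebraMap, ← toSpecOf_app_algebraMap, ← hs,
      ← map_pow, ← map_mul, ← map_sub, ← hr', mul_comm, sub_self, map_zero]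
  have key : ∀ (O : Y.Opens) (_ : O = Y.basicOpen (ρ.hom g)) (x : Γ(Y, ⊤)),
      (Y.presheaf.map (homOfLE le_top : O ⟶ ⊤).op).hom x = 0 →
      ∃ N : ℕ, ρ.hom g ^ N * x = 0 := by
    rintro O rfl x hx
    exact exists_pow_mul_eq_zero_of_res_basicOpen_eq_zero_of_isCompact Y
      (U := ⊤) isCompact_univ x (ρ.hom g) hx
  obtain ⟨N, hN⟩ := key _ (toSpecOf_preimage_basicOpen ρ g) _ h1
  refine ⟨N + n, g ^ N * r', ?_⟩
  rw [mul_sub, sub_eq_zero] at hN
  rw [map_mul, map_pow, ← hN, pow_add, mul_assoc]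

end Groth.Agent.H20.NA
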