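import Mathlib
import Groth.Agent.H24.LimitExists3
import Groth.Agent.H24.TwoCover

/-!
# Limits of schemes are local on the base (helper20)

If a cone over an inverse system with affine transition maps is, over two compatible
open charts covering the system, a limit cone, then it is a limit cone.
-/

set_option autoImplicit false
universe u
open CategoryTheory CategoryTheory.Limits AlgebraicGeometry Opposite TopologicalSpace

namespace Groth.Agent.H20.NA

theorem preimage_opensRange_of_isPullback' {P X Y Z : Scheme.{u}} {fst : P ⟶ X} {snd : P ⟶ Y}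
    {f : X ⟶ Z} {g : Y ⟶ Z} [IsOpenImmersion f] [IsOpenImmersion snd]
    (h : IsPullback fst snd f g) : g ⁻¹ᵁ f.opensRange = snd.opensRange := by
  apply TopologicalSpace.Opens.ext
  have := Scheme.image_preimage_eq_of_isPullback h Set.univ
  simp only [Set.preimage_univ, Set.image_univ] at this
  exact this.symm

section Chart

variable {J : Type u} [SmallCategory J] {D : J ⥤ Scheme.{u}}

/-- An open chart of an inverse system: a cartesian open subsystem. -/
structure SubSys (D : J ⥤ Scheme.{u}) where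
  F : J ⥤ Scheme.{u}
  ι : F ⟶ D
  oi : ∀ j, IsOpenImmersion (ι.app j)
  cart : ∀ {j j' : J} (f : j ⟶ j'), IsPullback (F.map f) (ι.app j) (ι.app j') (D.map f)

namespace SubSys

variable (E : SubSys D) (c : Cone D)

instance (j : J) : IsOpenImmersion (E.ι.app j) := E.oi j

/-- The preimage of the chart in the apex of a cone. -/
def chartOpen (j : J) : c.pt.Opens := c.π.app j ⁻¹ᵁ (E.ι.app j).opensRange

lemma chartOpen_eq_of_hom {j j' : J} (f : j ⟶ j') : E.chartOpen c j = E.chartOpen c j' := by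
  rw [chartOpen, chartOpen, ← c.w f, Scheme.Hom.comp_preimage,
    preimage_opensRange_of_isPullback' (E.cart f)]

lemma chartOpen_eq [IsCofiltered J] (j j' : J) : E.chartOpen c j = E.chartOpen c j' := by
  haveI : IsConnected J := IsCofiltered.isConnected J
  exact constant_of_preserves_morphisms (E.chartOpen c) (fun _ _ f => E.chartOpen_eq_of_hom c f) j j'

variable [IsCofiltered J]

lemma range_subset (j₀ j : J) :
    Set.range ((E.chartOpen c j₀).ι ≫ c.π.app j) ⊆ Set.range (E.ι.app j) := by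
  rintro _ ⟨x, rfl⟩
  have hx : x.1 ∈ E.chartOpen c j := by rw [← E.chartOpen_eq c j₀ j]; exact x.2
  exact hx

/-- The maps from the chart open to the subsystem. -/
noncomputable def chartLift (j₀ j : J) : (E.chartOpen c j₀ : Scheme.{u}) ⟶ E.F.obj j :=
  IsOpenImmersion.lift (E.ι.app j) ((E.chartOpen c j₀).ι ≫ c.π.app j) (E.range_subset c j₀ j)

@[reassoc]
lemma chartLift_ι (j₀ j : J) :
    E.chartLift c j₀ j ≫ E.ι.app j = (E.chartOpen c j₀).ι ≫ c.π.app j :=
  IsOpenImmersion.lift_fac _ _ _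

lemma chartLift_map (j₀ : J) {j j' : J} (f : j ⟶ j') :
    E.chartLift c j₀ j ≫ E.F.map f = E.chartLift c j₀ j' := by
  rw [← cancel_mono (E.ι.app j'), Category.assoc, E.ι.naturality, chartLift_ι_assoc, chartLift_ι,
    Cone.w]

/-- The induced cone over the chart. -/
noncomputable def chartCone (j₀ : J) : Cone E.F where
  pt := (E.chartOpen c j₀ : Scheme.{u})
  π :=
    { app := fun j => E.chartLift c j₀ j
      naturality := fun j j' f => by
        change 𝟙 _ ≫ E.chartLift c j₀ j' = E.chartLift c j₀ j ≫ E.F.map f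
        rw [Category.id_comp, chartLift_map] }

lemma isPullback_chartLift (j₀ j : J) :
    IsPullback (E.chartLift c j₀ j) (E.chartOpen c j₀).ι (E.ι.app j) (c.π.app j) :=
  IsOpenImmersion.isPullback (E.chartLift c j₀ j) (E.chartOpen c j₀).ι (E.ι.app j) (c.π.app j)
    (E.chartLift_ι c j₀ j).symm (by
      rw [Scheme.Opens.opensRange_ι, E.chartOpen_eq c j₀ j]
      rfl)

/-- The chart cone of a limit cone is a limit cone. -/
noncomputable def isLimitChartCone (hc : IsLimit c) (j₀ : J) : IsLimit (E.chartCone c j₀) :=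
  haveI : IsConnected J := IsCofiltered.isConnected J
  isLimitOfIsPullbackOfIsConnected E.ι (E.chartCone c j₀) c
    { hom := (E.chartOpen c j₀).ι
      w := fun j => (E.chartLift_ι c j₀ j).symm }
    (fun j => E.isPullback_chartLift c j₀ j)
    hc

end SubSys

/-- A chart of a cone: a limit cone of the subsystem with cartesian squares. -/
structure ChartCone (E : SubSys D) (c : Cone D) where
  cF : Cone E.F
  hcF : IsLimit cF
  a : cF.pt ⟶ c.pt
  sq : ∀ j, IsPullback (cF.π.app j) a (E.ι.app j) (c.π.app j)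

namespace ChartCone

variable {E : SubSys D} {c : Cone D} (C : ChartCone E c)

lemma isOpenImmersion_a (j₀ : J) : IsOpenImmersion C.a :=
  MorphismProperty.of_isPullback (P := @IsOpenImmersion) (C.sq j₀) (E.oi j₀)

lemma opensRange_a (j₀ : J) :
    haveI := C.isOpenImmersion_a j₀
    C.a.opensRange = E.chartOpen c j₀ := by
  haveI := C.isOpenImmersion_a j₀
  exact (preimage_opensRange_of_isPullback' (C.sq j₀)).symm

variable [IsCofiltered J]

lemma exists_iso {L : Cone D} (hL : IsLimit L) (φ : c.pt ⟶ L.pt)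
    (hφ : ∀ j, φ ≫ L.π.app j = c.π.app j) (j₀ : J) :
    ∃ θ : C.cF.pt ≅ (E.chartOpen L j₀ : Scheme.{u}),
      C.a ≫ φ = θ.hom ≫ (E.chartOpen L j₀).ι := by
  refine ⟨C.hcF.conePointUniqueUpToIso (E.isLimitChartCone L hL j₀), ?_⟩
  refine hL.hom_ext fun j => ?_
  have h1 := IsLimit.conePointUniqueUpToIso_hom_comp C.hcF (E.isLimitChartCone L hL j₀) j
  have h2 : (E.chartCone L j₀).π.app j = E.chartLift L j₀ j := rfl
  rw [Category.assoc, hφ, ← (C.sq j).w, Category.assoc, ← E.chartLift_ι L j₀ j, ← h2,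
    ← h1, Category.assoc]
  rfl

end ChartCone

theorem isLimit_of_two_charts [IsCofiltered J] [∀ (i j : J) (f : i ⟶ j), IsAffineHom (D.map f)]
    (c : Cone D) (E₁ E₂ : SubSys D) (C₁ : ChartCone E₁ c) (C₂ : ChartCone E₂ c) (j₀ : J)
    (hcov : Set.range (E₁.ι.app j₀) ∪ Set.range (E₂.ι.app j₀) = Set.univ) :
    Nonempty (IsLimit c) := by
  have := Groth.Agent.H24.hasLimit_of_isAffineHom_transitions D
  let L := limit.cone D
  let hL : IsLimit L := limit.isLimit D
  let φ : c.pt ⟶ L.pt := hL.lift c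
  have hφ : ∀ j, φ ≫ L.π.app j = c.π.app j := fun j => hL.fac c j
  obtain ⟨θ₁, h₁⟩ := C₁.exists_iso hL φ hφ j₀
  obtain ⟨θ₂, h₂⟩ := C₂.exists_iso hL φ hφ j₀
  haveI := C₁.isOpenImmersion_a j₀
  haveI := C₂.isOpenImmersion_a j₀
  have hoi₁ : IsOpenImmersion (C₁.a ≫ φ) := by rw [h₁]; infer_instance
  have hoi₂ : IsOpenImmersion (C₂.a ≫ φ) := by rw [h₂]; infer_instance
  have hr₁ : Set.range (C₁.a ≫ φ) = (E₁.chartOpen L j₀ : Set L.pt) := by
    rw [h₁]
    exact congrArg (fun O : L.pt.Opens => (O : Set L.pt))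
      ((Scheme.Hom.opensRange_comp_of_isIso θ₁.hom _).trans (Scheme.Opens.opensRange_ι _))
  have hr₂ : Set.range (C₂.a ≫ φ) = (E₂.chartOpen L j₀ : Set L.pt) := by
    rw [h₂]
    exact congrArg (fun O : L.pt.Opens => (O : Set L.pt))
      ((Scheme.Hom.opensRange_comp_of_isIso θ₂.hom _).trans (Scheme.Opens.opensRange_ι _))
  -- preimages of the charts
  have hp₁ : ∀ x : c.pt, φ x ∈ E₁.chartOpen L j₀ → x ∈ Set.range C₁.a := by
    intro x hx
    have h3 : x ∈ E₁.chartOpen c j₀ := by
      change c.π.app j₀ x ∈ (E₁.ι.app j₀).opensRange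
      rw [← hφ j₀]
      exact hx
    rw [← C₁.opensRange_a j₀] at h3
    exact h3
  have hp₂ : ∀ x : c.pt, φ x ∈ E₂.chartOpen L j₀ → x ∈ Set.range C₂.a := by
    intro x hx
    have h3 : x ∈ E₂.chartOpen c j₀ := by
      change c.π.app j₀ x ∈ (E₂.ι.app j₀).opensRange
      rw [← hφ j₀]
      exact hx
    rw [← C₂.opensRange_a j₀] at h3
    exact h3
  have hcovL : ∀ y : L.pt, y ∈ E₁.chartOpen L j₀ ∨ y ∈ E₂.chartOpen L j₀ := by
    intro y
    have : L.π.app j₀ y ∈ Set.range (E₁.ι.app j₀) ∪ Set.range (E₂.ι.app j₀) := by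
      rw [hcov]; trivial
    exact this
  have hcovc : Set.range C₁.a ∪ Set.range C₂.a = Set.univ := by
    apply Set.eq_univ_of_forall
    intro x
    rcases hcovL (φ x) with h | h
    · exact Or.inl (hp₁ x h)
    · exact Or.inr (hp₂ x h)
  have hinj : Function.Injective φ := by
    intro x y hxy
    rcases hcovL (φ x) with h | h
    · obtain ⟨x', rfl⟩ := hp₁ x h
      obtain ⟨y', rfl⟩ := hp₁ y (hxy ▸ h)
      have : (C₁.a ≫ φ) x' = (C₁.a ≫ φ) y' := hxy
      rw [(C₁.a ≫ φ).isOpenEmbedding.injective this]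
    · obtain ⟨x', rfl⟩ := hp₂ x h
      obtain ⟨y', rfl⟩ := hp₂ y (hxy ▸ h)
      have : (C₂.a ≫ φ) x' = (C₂.a ≫ φ) y' := hxy
      rw [(C₂.a ≫ φ).isOpenEmbedding.injective this]
  have hoi : IsOpenImmersion φ := by
    refine IsOpenImmersion.of_openCover_source _
      (Groth.Agent.H24.twoCover C₁.a C₂.a hcovc) hinj fun i => ?_
    cases i
    · exact hoi₂
    · exact hoi₁
  have hsurj : Function.Surjective φ := by
    intro y
    rcases hcovL y with h | h
    · have : y ∈ Set.range (C₁.a ≫ φ) := by rw [hr₁]; exact h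
      obtain ⟨x, rfl⟩ := this
      exact ⟨C₁.a x, rfl⟩
    · have : y ∈ Set.range (C₂.a ≫ φ) := by rw [hr₂]; exact h
      obtain ⟨x, rfl⟩ := this
      exact ⟨C₂.a x, rfl⟩
  have : Epi φ.base := (TopCat.epi_iff_surjective _).mpr hsurj
  have hiso : IsIso φ := IsOpenImmersion.isIso _
  exact ⟨hL.ofIsoLimit (Cones.ext (asIso φ) (fun j => (hφ j).symm)).symm⟩

end Chart

end Groth.Agent.H20.NA
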