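import Mathlib

/-!
# A criterion for `Y ⟶ Spec A` to be an open immersion (helper20)

If `φ : A ⟶ Γ(Y, ⊤)` and elements `h j` of `A` are such that the basic opens `Y_{φ (h j)}` are affine,
cover `Y`, and `A → Γ(Y, Y_{φ (h j)})` is the localization at `h j`, then `Y ⟶ Spec A` is an open
immersion with image `⋃ D(h j)`.
-/

set_option autoImplicit false
universe u
open CategoryTheory CategoryTheory.Limits AlgebraicGeometry TopologicalSpace

namespace Groth.Agent.H20.NA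

variable {Y : Scheme.{u}} {A : CommRingCat.{u}} (φ : A ⟶ Γ(Y, ⊤))

/-- The morphism `Y ⟶ Spec A` attached to `φ`. -/
noncomputable def toSpecOf : Y ⟶ Spec A := Y.toSpecΓ ≫ Spec.map φ

lemma toSpecOf_preimage_basicOpen (h : A) :
    toSpecOf φ ⁻¹ᵁ PrimeSpectrum.basicOpen h = Y.basicOpen (φ.hom h) := by
  rw [← Scheme.toSpecΓ_preimage_basicOpen]
  rfl

/-- The ring map `A ⟶ Γ(Y, Y_{φ h})`. -/
noncomputable def toBasic (h : A) : A ⟶ Γ(Y, Y.basicOpen (φ.hom h)) :=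
  φ ≫ Y.presheaf.map (homOfLE le_top).op

lemma ι_toSpecOf (h : A) (haff : IsAffineOpen (Y.basicOpen (φ.hom h))) :
    (Y.basicOpen (φ.hom h)).ι ≫ toSpecOf φ = haff.isoSpec.hom ≫ Spec.map (toBasic φ h) := by
  rw [toSpecOf, toBasic, Spec.map_comp, ← Category.assoc, ← Category.assoc,
    IsAffineOpen.isoSpec_hom, Scheme.Opens.toSpecΓ_SpecMap_presheaf_map_top]

variable {ι : Type u} (h : ι → A)

theorem isOpenImmersion_toSpecOf
    (haff : ∀ j, IsAffineOpen (Y.basicOpen (φ.hom (h j))))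
    (hcov : ⨆ j, Y.basicOpen (φ.hom (h j)) = ⊤)
    (hloc : ∀ j, letI := (toBasic φ (h j)).hom.toAlgebra
      IsLocalization.Away (h j) Γ(Y, Y.basicOpen (φ.hom (h j)))) :
    IsOpenImmersion (toSpecOf φ) := by
  have hoi : ∀ j, IsOpenImmersion ((Y.basicOpen (φ.hom (h j))).ι ≫ toSpecOf φ) := by
    intro j
    rw [ι_toSpecOf φ (h j) (haff j)]
    let _ := (toBasic φ (h j)).hom.toAlgebra
    have := hloc j
    have : IsOpenImmersion (Spec.map (toBasic φ (h j))) :=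
      IsOpenImmersion.of_isLocalization (R := A) (S := Γ(Y, Y.basicOpen (φ.hom (h j)))) (h j)
    infer_instance
  refine IsOpenImmersion.of_openCover_source _ (Y.openCoverOfIsOpenCover _ hcov) ?_ hoi
  intro y y' hyy'
  have hy : y ∈ (⨆ j, Y.basicOpen (φ.hom (h j)) : Y.Opens) := by rw [hcov]; trivial
  obtain ⟨j, hj⟩ := Opens.mem_iSup.mp hy
  have hy1 : y ∈ toSpecOf φ ⁻¹ᵁ PrimeSpectrum.basicOpen (h j) := by
    rw [toSpecOf_preimage_basicOpen]; exact hj
  have hy2 : y' ∈ toSpecOf φ ⁻¹ᵁ PrimeSpectrum.basicOpen (h j) := by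
    change toSpecOf φ y' ∈ PrimeSpectrum.basicOpen (h j)
    rw [← hyy']
    exact hy1
  rw [toSpecOf_preimage_basicOpen] at hy2
  have hinj : Function.Injective ((Y.basicOpen (φ.hom (h j))).ι ≫ toSpecOf φ) :=
    ((hoi j).base_open).injective
  have := @hinj ⟨y, hj⟩ ⟨y', hy2⟩ hyy'
  exact congrArg Subtype.val this

theorem range_toSpecOf
    (haff : ∀ j, IsAffineOpen (Y.basicOpen (φ.hom (h j))))
    (hcov : ⨆ j, Y.basicOpen (φ.hom (h j)) = ⊤)
    (hloc : ∀ j, letI := (toBasic φ (h j)).hom.toAlgebra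
      IsLocalization.Away (h j) Γ(Y, Y.basicOpen (φ.hom (h j)))) :
    Set.range (toSpecOf φ) = ⋃ j, (PrimeSpectrum.basicOpen (h j) : Set (PrimeSpectrum A)) := by
  apply Set.Subset.antisymm
  · rintro _ ⟨y, rfl⟩
    have hy : y ∈ (⨆ j, Y.basicOpen (φ.hom (h j)) : Y.Opens) := by rw [hcov]; trivial
    obtain ⟨j, hj⟩ := Opens.mem_iSup.mp hy
    rw [← toSpecOf_preimage_basicOpen] at hj
    exact Set.mem_iUnion.mpr ⟨j, hj⟩
  · intro x hx
    obtain ⟨j, hj⟩ := Set.mem_iUnion.mp hx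
    let _ := (toBasic φ (h j)).hom.toAlgebra
    have := hloc j
    have hr := PrimeSpectrum.localization_away_comap_range
      (S := Γ(Y, Y.basicOpen (φ.hom (h j)))) (r := h j)
    have hx' : x ∈ Set.range (PrimeSpectrum.comap (algebraMap A Γ(Y, Y.basicOpen (φ.hom (h j))))) := by
      rw [hr]; exact hj
    obtain ⟨z, rfl⟩ := hx'
    have e := ι_toSpecOf φ (h j) (haff j)
    let z' : ↥(Spec Γ(Y, Y.basicOpen (φ.hom (h j)))) := z
    refine ⟨(Y.basicOpen (φ.hom (h j))).ι ((haff j).isoSpec.inv z'), ?_⟩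
    have e2 : ((haff j).isoSpec.inv ≫ (Y.basicOpen (φ.hom (h j))).ι ≫ toSpecOf φ) z' =
        (Spec.map (toBasic φ (h j))) z' := by
      rw [e, Iso.inv_hom_id_assoc]
    exact e2

end Groth.Agent.H20.NA
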