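import Groth.Agent.H24.PushoutOpen
import Groth.Agent.H24.TwoCover

/-!
# Maps between pushouts of open immersions (helper20)

Preimages of the two charts under `pushout.map`, cartesian squares, affineness, and
the comparison `pushout ≅ X` for a scheme covered by two opens.
-/

set_option autoImplicit false
universe u
open CategoryTheory CategoryTheory.Limits AlgebraicGeometry TopologicalSpace

namespace Groth.Agent.H20.NA

section Map

variable {W U V W' U' V' : Scheme.{u}} (jU : W ⟶ U) (jV : W ⟶ V)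
  [IsOpenImmersion jU] [IsOpenImmersion jV]
  (jU' : W' ⟶ U') (jV' : W' ⟶ V') [IsOpenImmersion jU'] [IsOpenImmersion jV']
  (fU : U' ⟶ U) (fV : V' ⟶ V) (fW : W' ⟶ W)
  (h1 : jU' ≫ fU = fW ≫ jU) (h2 : jV' ≫ fV = fW ≫ jV)

theorem inl_pushoutMap :
    pushout.inl jU' jV' ≫ pushout.map jU' jV' jU jV fU fV fW h1 h2 = fU ≫ pushout.inl jU jV :=
  pushout.inl_desc _ _ _

theorem inr_pushoutMap :
    pushout.inr jU' jV' ≫ pushout.map jU' jV' jU jV fU fV fW h1 h2 = fV ≫ pushout.inr jU jV :=
  pushout.inr_desc _ _ _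

theorem pushoutMap_preimage_inl (hV : fV ⁻¹ᵁ jV.opensRange ≤ jV'.opensRange) :
    (pushout.map jU' jV' jU jV fU fV fW h1 h2) ⁻¹ᵁ (pushout.inl jU jV).opensRange =
      (pushout.inl jU' jV').opensRange := by
  ext x
  constructor
  · intro hx
    rcases Groth.Agent.H24.pushout_jointly_surjective jU' jV' x with ⟨u', rfl⟩ | ⟨v', rfl⟩
    · exact ⟨u', rfl⟩
    · obtain ⟨u, hu⟩ := hx
      have h3 : (pushout.map jU' jV' jU jV fU fV fW h1 h2) ((pushout.inr jU' jV') v') =
          (pushout.inr jU jV) (fV v') := by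
        rw [← Scheme.Hom.comp_apply, inr_pushoutMap, Scheme.Hom.comp_apply]
      rw [h3] at hu
      obtain ⟨w, -, hw2⟩ := (Groth.Agent.H24.pushout_inl_eq_inr_iff jU jV u (fV v')).mp hu
      have h4 : v' ∈ fV ⁻¹ᵁ jV.opensRange := ⟨w, hw2⟩
      obtain ⟨w', rfl⟩ := hV h4
      refine ⟨jU' w', ?_⟩
      rw [← Scheme.Hom.comp_apply, ← Scheme.Hom.comp_apply, pushout.condition]
  · rintro ⟨u', rfl⟩
    refine ⟨fU u', ?_⟩
    rw [← Scheme.Hom.comp_apply, ← Scheme.Hom.comp_apply, inl_pushoutMap]

theorem pushoutMap_preimage_inr (hU : fU ⁻¹ᵁ jU.opensRange ≤ jU'.opensRange) :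
    (pushout.map jU' jV' jU jV fU fV fW h1 h2) ⁻¹ᵁ (pushout.inr jU jV).opensRange =
      (pushout.inr jU' jV').opensRange := by
  ext x
  constructor
  · intro hx
    rcases Groth.Agent.H24.pushout_jointly_surjective jU' jV' x with ⟨u', rfl⟩ | ⟨v', rfl⟩
    · obtain ⟨v, hv⟩ := hx
      have h3 : (pushout.map jU' jV' jU jV fU fV fW h1 h2) ((pushout.inl jU' jV') u') =
          (pushout.inl jU jV) (fU u') := by
        rw [← Scheme.Hom.comp_apply, inl_pushoutMap, Scheme.Hom.comp_apply]
      rw [h3] at hv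
      obtain ⟨w, hw1, -⟩ := (Groth.Agent.H24.pushout_inl_eq_inr_iff jU jV (fU u') v).mp hv.symm
      have h4 : u' ∈ fU ⁻¹ᵁ jU.opensRange := ⟨w, hw1⟩
      obtain ⟨w', rfl⟩ := hU h4
      refine ⟨jV' w', ?_⟩
      rw [← Scheme.Hom.comp_apply, ← Scheme.Hom.comp_apply, pushout.condition]
    · exact ⟨v', rfl⟩
  · rintro ⟨v', rfl⟩
    refine ⟨fV v', ?_⟩
    rw [← Scheme.Hom.comp_apply, ← Scheme.Hom.comp_apply, inr_pushoutMap]

theorem isPullback_inl_pushoutMap (hV : fV ⁻¹ᵁ jV.opensRange ≤ jV'.opensRange) :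
    IsPullback fU (pushout.inl jU' jV') (pushout.inl jU jV)
      (pushout.map jU' jV' jU jV fU fV fW h1 h2) :=
  IsOpenImmersion.isPullback _ _ _ _ (inl_pushoutMap ..) (pushoutMap_preimage_inl _ _ _ _ _ _ _ h1 h2 hV)

theorem isPullback_inr_pushoutMap (hU : fU ⁻¹ᵁ jU.opensRange ≤ jU'.opensRange) :
    IsPullback fV (pushout.inr jU' jV') (pushout.inr jU jV)
      (pushout.map jU' jV' jU jV fU fV fW h1 h2) :=
  IsOpenImmersion.isPullback _ _ _ _ (inr_pushoutMap ..) (pushoutMap_preimage_inr _ _ _ _ _ _ _ h1 h2 hU)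

end Map

section Affine

variable {P P' U V U' V' : Scheme.{u}} (f : P' ⟶ P) (a : U ⟶ P) (b : V ⟶ P)
  [IsOpenImmersion a] [IsOpenImmersion b] (a' : U' ⟶ P') (b' : V' ⟶ P')
  (fU : U' ⟶ U) (fV : V' ⟶ V)

set_option backward.isDefEq.respectTransparency.types false in
/-- A morphism which is affine over the two members of an open cover of the target is affine. -/
theorem isAffineHom_of_two (hcov : Set.range a ∪ Set.range b = Set.univ)
    (hU : IsPullback fU a' a f) (hV : IsPullback fV b' b f) [IsAffineHom fU] [IsAffineHom fV] :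
    IsAffineHom f := by
  refine IsZariskiLocalAtTarget.of_openCover (P := @IsAffineHom)
    (Groth.Agent.H24.twoCover a b hcov) fun i => ?_
  cases i
  · change IsAffineHom (pullback.snd f b)
    have h : hV.flip.isoPullback.hom ≫ pullback.snd f b = fV := hV.flip.isoPullback_hom_snd
    have : IsAffineHom (hV.flip.isoPullback.hom ≫ pullback.snd f b) := by rw [h]; infer_instance
    exact (MorphismProperty.cancel_left_of_respectsIso @IsAffineHom _ _).mp this
  · change IsAffineHom (pullback.snd f a)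
    have h : hU.flip.isoPullback.hom ≫ pullback.snd f a = fU := hU.flip.isoPullback_hom_snd
    have : IsAffineHom (hU.flip.isoPullback.hom ≫ pullback.snd f a) := by rw [h]; infer_instance
    exact (MorphismProperty.cancel_left_of_respectsIso @IsAffineHom _ _).mp this

end Affine

section Glue

variable {X U V W : Scheme.{u}} (a : U ⟶ X) (b : V ⟶ X) [IsOpenImmersion a] [IsOpenImmersion b]
  (p : W ⟶ U) (q : W ⟶ V) [IsOpenImmersion p] [IsOpenImmersion q]

/-- A scheme covered by two opens is the pushout of the two opens along their intersection. -/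
theorem isIso_pushoutDesc (hW : IsPullback p q a b)
    (hcov : Set.range a ∪ Set.range b = Set.univ) : IsIso (pushout.desc a b hW.w) := by
  have hinj : Function.Injective (pushout.desc a b hW.w) := by
    intro x y hxy
    have ha : Function.Injective a := a.isOpenEmbedding.injective
    have hb : Function.Injective b := b.isOpenEmbedding.injective
    have e1 : ∀ u : U, (pushout.desc a b hW.w) ((pushout.inl p q) u) = a u := fun u => by
      rw [← Scheme.Hom.comp_apply, pushout.inl_desc]
    have e2 : ∀ v : V, (pushout.desc a b hW.w) ((pushout.inr p q) v) = b v := fun v => by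
      rw [← Scheme.Hom.comp_apply, pushout.inr_desc]
    have key : ∀ (u : U) (v : V), a u = b v → (pushout.inl p q) u = (pushout.inr p q) v := by
      intro u v huv
      obtain ⟨w, hw1, hw2⟩ := Scheme.Pullback.exists_preimage_pullback u v huv
      refine (Groth.Agent.H24.pushout_inl_eq_inr_iff p q u v).mpr ⟨hW.isoPullback.inv w, ?_, ?_⟩
      · rw [← Scheme.Hom.comp_apply, hW.isoPullback_inv_fst, hw1]
      · rw [← Scheme.Hom.comp_apply, hW.isoPullback_inv_snd, hw2]
    rcases Groth.Agent.H24.pushout_jointly_surjective p q x with ⟨u, rfl⟩ | ⟨v, rfl⟩ <;>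
    rcases Groth.Agent.H24.pushout_jointly_surjective p q y with ⟨u', rfl⟩ | ⟨v', rfl⟩
    · rw [e1, e1] at hxy
      rw [ha hxy]
    · rw [e1, e2] at hxy
      exact key u v' hxy
    · rw [e2, e1] at hxy
      exact (key u' v hxy.symm).symm
    · rw [e2, e2] at hxy
      rw [hb hxy]
  have hoi : IsOpenImmersion (pushout.desc a b hW.w) := by
    refine IsOpenImmersion.of_openCover_source _
      (Groth.Agent.H24.twoCover (pushout.inl p q) (pushout.inr p q)
        (Groth.Agent.H24.range_inl_union_range_inr p q)) hinj fun i => ?_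
    cases i
    · change IsOpenImmersion (pushout.inr p q ≫ pushout.desc a b hW.w)
      rw [pushout.inr_desc]; infer_instance
    · change IsOpenImmersion (pushout.inl p q ≫ pushout.desc a b hW.w)
      rw [pushout.inl_desc]; infer_instance
  have hsurj : Function.Surjective (pushout.desc a b hW.w) := by
    intro x
    have hx : x ∈ Set.range a ∪ Set.range b := hcov ▸ Set.mem_univ x
    rcases hx with ⟨u, rfl⟩ | ⟨v, rfl⟩
    · exact ⟨(pushout.inl p q) u, by rw [← Scheme.Hom.comp_apply, pushout.inl_desc]⟩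
    · exact ⟨(pushout.inr p q) v, by rw [← Scheme.Hom.comp_apply, pushout.inr_desc]⟩
  have : Epi (pushout.desc a b hW.w).base := (TopCat.epi_iff_surjective _).mpr hsurj
  exact IsOpenImmersion.isIso _

end Glue

end Groth.Agent.H20.NA
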