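import Mathlib

/-!
# Relative approximations (helper20)

`RelApprox DV cV a`: for an inverse system `DV` with cone `cV` and an open immersion
`a : cV.pt ⟶ X`, an inverse system `D` of finite type `ℤ`-schemes with limit `X` containing
the `DV`'s as compatible open subschemes.
-/

set_option autoImplicit false
universe u
open CategoryTheory CategoryTheory.Limits AlgebraicGeometry Opposite

namespace Groth.Agent.H20.NA

/-- The finite type condition on the stages. -/
def IsFT (D : Scheme.{u}) : Prop :=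
  CompactSpace D ∧ LocallyOfFiniteType (specULiftZIsTerminal.from D)

structure RelApprox {I : Type u} [Preorder I] (DV : Iᵒᵖ ⥤ Scheme.{u}) (cV : Cone DV)
    {X : Scheme.{u}} (a : cV.pt ⟶ X) where
  J : Type u
  [pre : Preorder J]
  [dir : IsDirected J (fun a b => a ≤ b)]
  [ne : Nonempty J]
  D : Jᵒᵖ ⥤ Scheme.{u}
  c : Cone D
  hc : IsLimit c
  e : c.pt ≅ X
  α : J →o I
  ι : ∀ j : J, DV.obj (op (α j)) ⟶ D.obj (op j)
  oi : ∀ j, IsOpenImmersion (ι j)
  aff : ∀ (j j' : Jᵒᵖ) (f : j ⟶ j'), IsAffineHom (D.map f)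
  ft : ∀ j, IsFT (D.obj j)
  sq : ∀ (j j' : J) (h : j' ≤ j),
    IsPullback (DV.map (homOfLE (α.mono h)).op) (ι j) (ι j') (D.map (homOfLE h).op)
  sqc : ∀ j : J, IsPullback (cV.π.app (op (α j))) (a ≫ e.inv) (ι j) (c.π.app (op j))

attribute [instance] RelApprox.pre RelApprox.dir RelApprox.ne

namespace RelApprox

variable {I : Type u} [Preorder I] {DV : Iᵒᵖ ⥤ Scheme.{u}} {cV : Cone DV}

/-- The trivial approximation. -/
noncomputable def refl [IsDirected I (fun a b => a ≤ b)] [Nonempty I] (hcV : IsLimit cV)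
    (haff : ∀ (i i' : Iᵒᵖ) (f : i ⟶ i'), IsAffineHom (DV.map f))
    (hft : ∀ i, IsFT (DV.obj i)) : RelApprox DV cV (𝟙 cV.pt) where
  J := I
  D := DV
  c := cV
  hc := hcV
  e := Iso.refl _
  α := OrderHom.id
  ι := fun j => 𝟙 (DV.obj (op j))
  oi := fun j => by
    change IsOpenImmersion (𝟙 (DV.obj (op j)))
    infer_instance
  aff := haff
  ft := hft
  sq := fun j j' h => by
    change IsPullback (DV.map (homOfLE h).op) (𝟙 (DV.obj (op j))) (𝟙 (DV.obj (op j')))
      (DV.map (homOfLE h).op)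
    exact IsPullback.of_vert_isIso ⟨by simp⟩
  sqc := fun j => by
    change IsPullback (cV.π.app (op j)) (𝟙 cV.pt ≫ 𝟙 cV.pt) (𝟙 (DV.obj (op j))) (cV.π.app (op j))
    rw [Category.comp_id]
    exact @IsPullback.of_vert_isIso _ _ _ _ _ _ _ _ _ _ (IsIso.id cV.pt) (IsIso.id _) ⟨by simp⟩

/-- Transport along an isomorphism of the ambient scheme. -/
noncomputable def ofIso {X X' : Scheme.{u}} {a : cV.pt ⟶ X} (A : RelApprox DV cV a)
    (i : X ≅ X') : RelApprox DV cV (a ≫ i.hom) where
  J := A.J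
  D := A.D
  c := A.c
  hc := A.hc
  e := A.e ≪≫ i
  α := A.α
  ι := A.ι
  oi := A.oi
  aff := A.aff
  ft := A.ft
  sq := A.sq
  sqc := fun j => by
    have := A.sqc j
    simpa using this

/-- Change of the map `a` along an equality. -/
def ofEq {X : Scheme.{u}} {a a' : cV.pt ⟶ X} (A : RelApprox DV cV a) (h : a = a') :
    RelApprox DV cV a' := h ▸ A

/-- Transitivity. -/
noncomputable def trans {X X' : Scheme.{u}} {a : cV.pt ⟶ X} (A : RelApprox DV cV a)
    {b : X ⟶ X'} (B : RelApprox A.D A.c (A.e.hom ≫ b)) : RelApprox DV cV (a ≫ b) where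
  J := B.J
  D := B.D
  c := B.c
  hc := B.hc
  e := B.e
  α := A.α.comp B.α
  ι := fun k => A.ι (B.α k) ≫ B.ι k
  oi := fun k => by
    have h1 : IsOpenImmersion (A.ι (B.α k)) := A.oi (B.α k)
    have h2 : IsOpenImmersion (B.ι k) := B.oi k
    exact IsOpenImmersion.comp (A.ι (B.α k)) (B.ι k)
  aff := B.aff
  ft := B.ft
  sq := fun k k' h => (A.sq (B.α k) (B.α k') (B.α.mono h)).paste_vert (B.sq k k' h)
  sqc := fun k => by
    have h := (A.sqc (B.α k)).paste_vert (B.sqc k)
    have e : (a ≫ A.e.inv) ≫ (A.e.hom ≫ b) ≫ B.e.inv = (a ≫ b) ≫ B.e.inv := by simp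
    rw [e] at h
    exact h

/-- Reindexing the given system along a monotone map. -/
noncomputable def reindex {I' : Type u} [Preorder I'] (ν : I' →o I) {X : Scheme.{u}}
    {a : cV.pt ⟶ X}
    (A : RelApprox (ν.monotone.functor.op ⋙ DV) (cV.whisker ν.monotone.functor.op) a) :
    RelApprox DV cV a where
  J := A.J
  D := A.D
  c := A.c
  hc := A.hc
  e := A.e
  α := ν.comp A.α
  ι := A.ι
  oi := A.oi
  aff := A.aff
  ft := A.ft
  sq := A.sq
  sqc := A.sqc

end RelApprox

end Groth.Agent.H20.NA
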