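import Mathlib

/-!
# Descending a finite cover by affine basic opens to a finite stage (helper20)
-/

set_option autoImplicit false
universe u
open CategoryTheory CategoryTheory.Limits AlgebraicGeometry Opposite TopologicalSpace

namespace Groth.Agent.H20.NA

namespace Select

variable {J : Type u} [SmallCategory J] [IsCofiltered J] [Quiver.IsThin J]
  (𝒟 : J ⥤ Scheme.{u}) [∀ {i j : J} (f : i ⟶ j), IsAffineHom (𝒟.map f)]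
  [∀ i, IsNoetherian (𝒟.obj i)] (𝒸 : Cone 𝒟) (h𝒸 : IsLimit 𝒸)

/-- Pull a global section back along a transition map. -/
noncomputable def push {i i' : J} (u : i' ⟶ i) (t : Γ(𝒟.obj i, ⊤)) : Γ(𝒟.obj i', ⊤) :=
  (𝒟.map u).appTop.hom t

variable {𝒟}

lemma π_push {i i' : J} (u : i' ⟶ i) (t : Γ(𝒟.obj i, ⊤)) :
    (𝒸.π.app i').appTop.hom (push 𝒟 u t) = (𝒸.π.app i).appTop.hom t := by
  rw [← 𝒸.w u, Scheme.Hom.comp_appTop]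
  rfl

lemma basicOpen_push {i i' : J} (u : i' ⟶ i) (t : Γ(𝒟.obj i, ⊤)) :
    (𝒟.obj i').basicOpen (push 𝒟 u t) = 𝒟.map u ⁻¹ᵁ (𝒟.obj i).basicOpen t :=
  (Scheme.preimage_basicOpen_top (𝒟.map u) t).symm

lemma push_push {i i' i'' : J} (u' : i'' ⟶ i') (u : i' ⟶ i) (t : Γ(𝒟.obj i, ⊤)) :
    push 𝒟 u' (push 𝒟 u t) = push 𝒟 (u' ≫ u) t := by
  unfold push
  rw [Functor.map_comp, Scheme.Hom.comp_appTop]
  rfl

lemma isAffineOpen_push {i i' : J} (u : i' ⟶ i) (t : Γ(𝒟.obj i, ⊤))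
    (h : IsAffineOpen ((𝒟.obj i).basicOpen t)) :
    IsAffineOpen ((𝒟.obj i').basicOpen (push 𝒟 u t)) := by
  rw [basicOpen_push]
  exact h.preimage _

lemma basicOpen_π {i : J} (t : Γ(𝒟.obj i, ⊤)) :
    𝒸.pt.basicOpen ((𝒸.π.app i).appTop.hom t) = 𝒸.π.app i ⁻¹ᵁ (𝒟.obj i).basicOpen t :=
  (Scheme.preimage_basicOpen_top (𝒸.π.app i) t).symm

variable (𝒟)

include h𝒸 in
lemma exists_lifts {m : ℕ} (s : Fin m → Γ(𝒸.pt, ⊤)) :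
    ∃ (i : J) (t : Fin m → Γ(𝒟.obj i, ⊤)), ∀ j, (𝒸.π.app i).appTop.hom (t j) = s j := by
  classical
  choose i t ht using fun j => exists_appTop_π_eq_of_isLimit 𝒟 𝒸 h𝒸 (s j)
  obtain ⟨i₀, fi⟩ := IsCofiltered.inf_objs_exists (Finset.univ.image i)
  replace fi : ∀ j, i₀ ⟶ i j := fun j => (fi (by simp)).some
  exact ⟨i₀, fun j => push 𝒟 (fi j) (t j), fun j => by rw [π_push, ← ht j]⟩

include h𝒸 in
lemma exists_affine (i : J) (t : Γ(𝒟.obj i, ⊤))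
    (h : IsAffineOpen (𝒸.pt.basicOpen ((𝒸.π.app i).appTop.hom t))) :
    ∃ (i' : J) (u : i' ⟶ i), IsAffineOpen ((𝒟.obj i').basicOpen (push 𝒟 u t)) := by
  obtain ⟨i₁, V, hV, hVe⟩ := exists_isAffineOpen_preimage_eq 𝒟 𝒸 h𝒸 _ h
  obtain ⟨i₂, v, w, -⟩ := IsCofilteredOrEmpty.cone_objs i₁ i
  have hc : ∀ (O : (𝒟.obj i₂).Opens), IsCompact (O : Set (𝒟.obj i₂)) :=
    fun O => NoetherianSpace.isCompact _
  have H : 𝒸.π.app i₂ ⁻¹ᵁ (𝒟.obj i₂).basicOpen (push 𝒟 w t) =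
      𝒸.π.app i₂ ⁻¹ᵁ (𝒟.map v ⁻¹ᵁ V) := by
    rw [← basicOpen_π, π_push, ← Scheme.Hom.comp_preimage, 𝒸.w, hVe]
  obtain ⟨i₃, f, hf⟩ := exists_map_preimage_eq_map_preimage 𝒟 𝒸 h𝒸 (hc _) (hc _) H
  refine ⟨i₃, f ≫ w, ?_⟩
  rw [← push_push, basicOpen_push, hf]
  exact (hV.preimage _).preimage _

include h𝒸 in
lemma exists_affine_all {m : ℕ} (i : J) (t : Fin m → Γ(𝒟.obj i, ⊤))
    (h : ∀ j, IsAffineOpen (𝒸.pt.basicOpen ((𝒸.π.app i).appTop.hom (t j)))) :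
    ∃ (i' : J) (u : i' ⟶ i), ∀ j, IsAffineOpen ((𝒟.obj i').basicOpen (push 𝒟 u (t j))) := by
  classical
  choose i' u hu using fun j => exists_affine 𝒟 𝒸 h𝒸 i (t j) (h j)
  obtain ⟨i₀, fi⟩ := IsCofiltered.inf_objs_exists (insert i (Finset.univ.image i'))
  have u₀ : i₀ ⟶ i := (fi (by simp)).some
  replace fi : ∀ j, i₀ ⟶ i' j := fun j => (fi (by simp)).some
  refine ⟨i₀, u₀, fun j => ?_⟩
  have : u₀ = fi j ≫ u j := Subsingleton.elim _ _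
  rw [this, ← push_push]
  exact isAffineOpen_push _ _ (hu j)

include h𝒸 in
lemma exists_cover {m : ℕ} (i : J) (t : Fin m → Γ(𝒟.obj i, ⊤))
    (h : ⨆ j, 𝒸.pt.basicOpen ((𝒸.π.app i).appTop.hom (t j)) = ⊤) :
    ∃ (i' : J) (u : i' ⟶ i), ⨆ j, (𝒟.obj i').basicOpen (push 𝒟 u (t j)) = ⊤ := by
  have hc : ∀ (O : (𝒟.obj i).Opens), IsCompact (O : Set (𝒟.obj i)) :=
    fun O => NoetherianSpace.isCompact _
  have H : 𝒸.π.app i ⁻¹ᵁ (⨆ j, (𝒟.obj i).basicOpen (t j)) = 𝒸.π.app i ⁻¹ᵁ ⊤ := by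
    rw [Scheme.Hom.preimage_iSup]
    simp_rw [← basicOpen_π]
    rw [h]
    rfl
  obtain ⟨i', u, hu⟩ := exists_map_preimage_eq_map_preimage 𝒟 𝒸 h𝒸 (hc _) (hc _) H
  refine ⟨i', u, ?_⟩
  simp_rw [basicOpen_push]
  rw [← Scheme.Hom.preimage_iSup, hu]
  rfl

include h𝒸 in
theorem exists_stage {m : ℕ} (s : Fin m → Γ(𝒸.pt, ⊤))
    (haff : ∀ j, IsAffineOpen (𝒸.pt.basicOpen (s j)))
    (hcov : ⨆ j, 𝒸.pt.basicOpen (s j) = ⊤) :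
    ∃ (i : J) (t : Fin m → Γ(𝒟.obj i, ⊤)), (∀ j, (𝒸.π.app i).appTop.hom (t j) = s j) ∧
      (∀ j, IsAffineOpen ((𝒟.obj i).basicOpen (t j))) ∧
      ⨆ j, (𝒟.obj i).basicOpen (t j) = ⊤ := by
  obtain ⟨i₀, t₀, ht₀⟩ := exists_lifts 𝒟 𝒸 h𝒸 s
  obtain ⟨i₁, u₁, h₁⟩ := exists_affine_all 𝒟 𝒸 h𝒸 i₀ t₀ (fun j => by rw [ht₀]; exact haff j)
  obtain ⟨i₂, u₂, h₂⟩ := exists_cover 𝒟 𝒸 h𝒸 i₁ (fun j => push 𝒟 u₁ (t₀ j)) (by
    simp_rw [π_push, ht₀]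
    exact hcov)
  refine ⟨i₂, fun j => push 𝒟 u₂ (push 𝒟 u₁ (t₀ j)), fun j => ?_, fun j => ?_, h₂⟩
  · rw [π_push, π_push, ht₀]
  · exact isAffineOpen_push _ _ (h₁ j)

end Select

end Groth.Agent.H20.NA
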