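import Groth.Agent.H20.NA.Stages

/-!
# The inverse system of the stages `X_k` (helper20)
-/

set_option autoImplicit false
universe u
open CategoryTheory CategoryTheory.Limits AlgebraicGeometry Opposite TopologicalSpace

namespace Groth.Agent.H20.NA

namespace StepData

variable {I : Type u} [Preorder I] {D : StepData I}
variable [IsDirected I (fun a b => a ≤ b)] [Nonempty I]

/-- The stage scheme `X_k = U_i ∪_{W_i} Spec A_k`. -/
noncomputable def X (k : D.K) : Scheme.{u} := pushout (D.W (lev k)).ι (jV k)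

/-- The chart `U_i ⟶ X_k`. -/
noncomputable def inlX (k : D.K) : D.DU.obj (op (lev k)) ⟶ X k := pushout.inl _ _

/-- The chart `Spec A_k ⟶ X_k`. -/
noncomputable def inrX (k : D.K) : Spec (AK k) ⟶ X k := pushout.inr _ _

instance (k : D.K) : IsOpenImmersion (inlX k) :=
  inferInstanceAs (IsOpenImmersion (pushout.inl (D.W (lev k)).ι (jV k)))
instance (k : D.K) : IsOpenImmersion (inrX k) :=
  inferInstanceAs (IsOpenImmersion (pushout.inr (D.W (lev k)).ι (jV k)))

lemma range_inlX_union (k : D.K) : Set.range (inlX k) ∪ Set.range (inrX k) = Set.univ :=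
  Groth.Agent.H24.range_inl_union_range_inr _ _

lemma uW_jV {k k' : D.K} (h : k ≤ k') :
    jV k' ≫ Spec.map (ψ h) = D.uW (FibSys.Idx.le_i h) ≫ jV k := by
  rw [jV, jV, toSpecOf_comp_SpecMap, comp_toSpecOf, ψ_φ]

/-- The transition maps. -/
noncomputable def tX {k k' : D.K} (h : k ≤ k') : X k' ⟶ X k :=
  pushout.map (D.W (lev k')).ι (jV k') (D.W (lev k)).ι (jV k)
    (D.DU.map (homOfLE (FibSys.Idx.le_i h)).op) (Spec.map (ψ h)) (D.uW (FibSys.Idx.le_i h))
    (D.uW_ι _).symm (uW_jV h)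

@[reassoc]
lemma inlX_tX {k k' : D.K} (h : k ≤ k') :
    inlX k' ≫ tX h = D.DU.map (homOfLE (FibSys.Idx.le_i h)).op ≫ inlX k :=
  pushout.inl_desc _ _ _

@[reassoc]
lemma inrX_tX {k k' : D.K} (h : k ≤ k') : inrX k' ≫ tX h = Spec.map (ψ h) ≫ inrX k :=
  pushout.inr_desc _ _ _

lemma X_hom_ext {k : D.K} {T : Scheme.{u}} {a b : X k ⟶ T} (h1 : inlX k ≫ a = inlX k ≫ b)
    (h2 : inrX k ≫ a = inrX k ≫ b) : a = b :=
  pushout.hom_ext h1 h2

lemma tX_refl (k : D.K) : tX (le_refl k) = 𝟙 _ := by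
  apply X_hom_ext
  · rw [inlX_tX, Category.comp_id]
    have : (homOfLE (FibSys.Idx.le_i (le_refl k))).op = 𝟙 (op (lev k)) := Subsingleton.elim _ _
    rw [this, D.DU.map_id, Category.id_comp]
  · rw [inrX_tX, Category.comp_id, ψ_refl, Spec.map_id, Category.id_comp]

lemma tX_trans {k k' k'' : D.K} (h : k ≤ k') (h' : k' ≤ k'') :
    tX h' ≫ tX h = tX (h.trans h') := by
  apply X_hom_ext
  · rw [inlX_tX_assoc, inlX_tX, inlX_tX, ← Functor.map_comp_assoc]
    congr 2
  · rw [inrX_tX_assoc, inrX_tX, inrX_tX, ← Spec.map_comp_assoc, ψ_trans]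

variable (D)

/-- The inverse system of the stages. -/
noncomputable def DX : D.Kᵒᵖ ⥤ Scheme.{u} where
  obj k := X k.unop
  map {k k'} f := tX (leOfHom f.unop)
  map_id k := tX_refl _
  map_comp f g := (tX_trans _ _).symm

variable {D}

lemma SpecMap_ψ_preimage {k k' : D.K} (h : k ≤ k') :
    Spec.map (ψ h) ⁻¹ᵁ (jV k).opensRange ≤ (jV k').opensRange := by
  intro x hx
  have hx' : Spec.map (ψ h) x ∈ Set.range (jV k) := hx
  rw [range_jV] at hx'
  obtain ⟨j, hj⟩ := Set.mem_iUnion.mp hx'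
  change x ∈ Set.range (jV k')
  rw [range_jV]
  refine Set.mem_iUnion.mpr ⟨j, ?_⟩
  have : x ∈ Spec.map (ψ h) ⁻¹ᵁ PrimeSpectrum.basicOpen (D.fibSys.hA k j) := hj
  rw [SpecMap_preimage_basicOpen] at this
  have e : (ψ h).hom (D.fibSys.hA k j) = D.fibSys.hA k' j := D.fibSys.next_hA h j
  rw [← e]
  exact this

lemma DUmap_preimage {k k' : D.K} (h : k ≤ k') :
    D.DU.map (homOfLE (FibSys.Idx.le_i h)).op ⁻¹ᵁ (D.W (lev k)).ι.opensRange ≤
      (D.W (lev k')).ι.opensRange := by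
  rw [Scheme.Opens.opensRange_ι, Scheme.Opens.opensRange_ι, D.W_eq]

lemma isPullback_inlX {k k' : D.K} (h : k ≤ k') :
    IsPullback (D.DU.map (homOfLE (FibSys.Idx.le_i h)).op) (inlX k') (inlX k) (tX h) :=
  isPullback_inl_pushoutMap (D.W (lev k)).ι (jV k) (D.W (lev k')).ι (jV k')
    (D.DU.map (homOfLE (FibSys.Idx.le_i h)).op) (Spec.map (ψ h)) (D.uW (FibSys.Idx.le_i h))
    (D.uW_ι _).symm (uW_jV h) (SpecMap_ψ_preimage h)

lemma isPullback_inrX {k k' : D.K} (h : k ≤ k') :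
    IsPullback (Spec.map (ψ h)) (inrX k') (inrX k) (tX h) :=
  isPullback_inr_pushoutMap (D.W (lev k)).ι (jV k) (D.W (lev k')).ι (jV k')
    (D.DU.map (homOfLE (FibSys.Idx.le_i h)).op) (Spec.map (ψ h)) (D.uW (FibSys.Idx.le_i h))
    (D.uW_ι _).symm (uW_jV h) (DUmap_preimage h)

instance {k k' : D.K} (h : k ≤ k') : IsAffineHom (tX h) := by
  have := D.haff _ _ (homOfLE (FibSys.Idx.le_i h)).op
  exact isAffineHom_of_two (tX h) (inlX k) (inrX k) (inlX k') (inrX k')
    (D.DU.map (homOfLE (FibSys.Idx.le_i h)).op) (Spec.map (ψ h)) (range_inlX_union k)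
    (isPullback_inlX h) (isPullback_inrX h)

lemma DX_affine (k k' : D.Kᵒᵖ) (f : k ⟶ k') : IsAffineHom ((D.DX).map f) := by
  change IsAffineHom (tX _)
  infer_instance

lemma isFT_X (k : D.K) : IsFT (X k) := by
  have h1 := (D.hft (op (lev k))).1
  have h2 := (D.hft (op (lev k))).2
  refine ⟨Groth.Agent.H24.compactSpace_pushout _ _, ?_⟩
  have : IsZariskiLocalAtSource @LocallyOfFiniteType.{u} :=
    HasRingHomProperty.instIsZariskiLocalAtSource
  refine IsZariskiLocalAtSource.of_openCover (P := @LocallyOfFiniteType.{u})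
    (Groth.Agent.H24.twoCover (inlX k) (inrX k) (range_inlX_union k)) fun i => ?_
  cases i
  · change LocallyOfFiniteType (inrX k ≫ specULiftZIsTerminal.from (X k))
    rw [specULiftZIsTerminal.hom_ext (inrX k ≫ specULiftZIsTerminal.from (X k))
      (specULiftZIsTerminal.from (Spec (AK k)))]
    exact locallyOfFiniteType_from_Spec (AK k)
      ((Subalgebra.fg_iff_finiteType _).mp (FibSys.Idx.good k).1)
  · change LocallyOfFiniteType (inlX k ≫ specULiftZIsTerminal.from (X k))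
    rw [specULiftZIsTerminal.hom_ext (inlX k ≫ specULiftZIsTerminal.from (X k))
      (specULiftZIsTerminal.from (D.DU.obj (op (lev k))))]
    exact h2

lemma DX_ft (k : D.Kᵒᵖ) : IsFT ((D.DX).obj k) := isFT_X k.unop

end StepData

end Groth.Agent.H20.NA
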