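import Groth.Agent.H20.NA.StepRing
import Groth.Agent.H20.NA.PushoutMap

/-!
# The finite type stages `X_k` (helper20)
-/

set_option autoImplicit false
universe u
open CategoryTheory CategoryTheory.Limits AlgebraicGeometry Opposite TopologicalSpace

namespace Groth.Agent.H20.NA

section General

variable {Y Y' : Scheme.{u}} {A A' : CommRingCat.{u}}

lemma comp_toSpecOf (f : Y' ⟶ Y) (φ : A ⟶ Γ(Y, ⊤)) :
    f ≫ toSpecOf φ = toSpecOf (φ ≫ f.appTop) := by
  rw [toSpecOf, toSpecOf, Spec.map_comp, ← Category.assoc, ← Category.assoc,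
    Scheme.toSpecΓ_naturality]

lemma toSpecOf_comp_SpecMap (φ : A' ⟶ Γ(Y, ⊤)) (ψ : A ⟶ A') :
    toSpecOf φ ≫ Spec.map ψ = toSpecOf (ψ ≫ φ) := by
  rw [toSpecOf, toSpecOf, Spec.map_comp, Category.assoc]

end General

namespace StepData

variable {I : Type u} [Preorder I] (D : StepData I)
variable [IsDirected I (fun a b => a ≤ b)] [Nonempty I]

/-- The index set of the approximating system. -/
abbrev K : Type u := D.fibSys.Idx

variable {D}

/-- The level of an index. -/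
abbrev lev (k : D.K) : I := FibSys.Idx.i k

/-- The ring `A_k`. -/
noncomputable abbrev AK (k : D.K) : CommRingCat.{u} := CommRingCat.of (FibSys.Idx.A k)

/-- The map `A_k ⟶ Γ(W_i, ⊤)`. -/
noncomputable def φ (k : D.K) : AK k ⟶ Γ((D.W (lev k) : Scheme.{u}), ⊤) :=
  CommRingCat.ofHom (D.fibSys.sndHom k)

/-- The map `A_k ⟶ R`. -/
noncomputable def φR (k : D.K) : AK k ⟶ D.R :=
  CommRingCat.ofHom (D.fibSys.fstHom k)

/-- The transition maps `A_k ⟶ A_k'`. -/
noncomputable def ψ {k k' : D.K} (h : k ≤ k') : AK k ⟶ AK k' :=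
  CommRingCat.ofHom (D.fibSys.next h)

lemma ψ_φ {k k' : D.K} (h : k ≤ k') :
    ψ h ≫ φ k' = φ k ≫ (D.uW (FibSys.Idx.le_i h)).appTop :=
  CommRingCat.hom_ext (RingHom.ext fun x => D.fibSys.sndHom_next h x)

lemma ψ_φR {k k' : D.K} (h : k ≤ k') : ψ h ≫ φR k' = φR k :=
  CommRingCat.hom_ext (RingHom.ext fun x => D.fibSys.fstHom_next h x)

lemma φR_ρ (k : D.K) : φR k ≫ D.ρ = φ k ≫ (D.πW (lev k)).appTop :=
  CommRingCat.hom_ext (RingHom.ext fun x => D.fibSys.ρ_fstHom k x)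

lemma ψ_refl (k : D.K) : ψ (le_refl k) = 𝟙 _ :=
  CommRingCat.hom_ext (RingHom.ext fun x => D.fibSys.next_refl k x)

lemma ψ_trans {k k' k'' : D.K} (h : k ≤ k') (h' : k' ≤ k'') : ψ h ≫ ψ h' = ψ (h.trans h') :=
  CommRingCat.hom_ext (RingHom.ext fun x => D.fibSys.next_trans h h' x)

/-- The open immersion `W_i ⟶ Spec A_k`. -/
noncomputable def jV (k : D.K) : (D.W (lev k) : Scheme.{u}) ⟶ Spec (AK k) := toSpecOf (φ k)

lemma φ_hA (k : D.K) (j : Fin D.m) : (φ k).hom (D.fibSys.hA k j) = D.ff (lev k) j := rfl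

lemma jV_aux_cov (k : D.K) :
    ⨆ j : ULift.{u} (Fin D.m),
      (D.W (lev k) : Scheme.{u}).basicOpen ((φ k).hom (D.fibSys.hA k j.down)) = ⊤ := by
  apply le_antisymm le_top
  calc (⊤ : (D.W (lev k) : Scheme.{u}).Opens)
      = ⨆ j, (D.W (lev k) : Scheme.{u}).basicOpen (D.ff (lev k) j) :=
        (D.iSup_basicOpen_ff (lev k)).symm
    _ ≤ _ := iSup_le fun j => le_iSup (fun j : ULift.{u} (Fin D.m) =>
      (D.W (lev k) : Scheme.{u}).basicOpen ((φ k).hom (D.fibSys.hA k j.down))) ⟨j⟩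

lemma jV_aux_loc (k : D.K) (j : ULift.{u} (Fin D.m)) :
    letI := (toBasic (φ k) (D.fibSys.hA k j.down)).hom.toAlgebra
    IsLocalization.Away (D.fibSys.hA k j.down)
      Γ((D.W (lev k) : Scheme.{u}),
        (D.W (lev k) : Scheme.{u}).basicOpen ((φ k).hom (D.fibSys.hA k j.down))) :=
  D.fibSys.isLocalization_hA k j.down

instance (k : D.K) : IsOpenImmersion (jV k) :=
  isOpenImmersion_toSpecOf (φ k) (fun j : ULift.{u} (Fin D.m) => D.fibSys.hA k j.down)
    (fun j => D.isAffineOpen_basicOpen_ff (lev k) j.down) (jV_aux_cov k) (jV_aux_loc k)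

lemma range_jV (k : D.K) :
    Set.range (jV k) =
      ⋃ j : Fin D.m, (PrimeSpectrum.basicOpen (D.fibSys.hA k j) : Set (PrimeSpectrum (AK k))) := by
  have := range_toSpecOf (φ k) (fun j : ULift.{u} (Fin D.m) => D.fibSys.hA k j.down)
    (fun j => D.isAffineOpen_basicOpen_ff (lev k) j.down) (jV_aux_cov k) (jV_aux_loc k)
  rw [jV, this]
  ext x
  simp only [Set.mem_iUnion]
  exact ⟨fun ⟨j, hj⟩ => ⟨j.down, hj⟩, fun ⟨j, hj⟩ => ⟨⟨j⟩, hj⟩⟩

end StepData

end Groth.Agent.H20.NA
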