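import Groth.Agent.H20.NA.StageFunctor
import Groth.Agent.H20.NA.LOB

/-!
# The limit cone over the stages (helper20)
-/

set_option autoImplicit false
universe u
open CategoryTheory CategoryTheory.Limits AlgebraicGeometry Opposite TopologicalSpace

namespace Groth.Agent.H20.NA

namespace StepData

variable {I : Type u} [Preorder I] {D : StepData I}
variable [IsDirected I (fun a b => a ≤ b)] [Nonempty I]

variable (D) in
/-- The limit scheme `U ∪_W Spec R`. -/
noncomputable def XL : Scheme.{u} := pushout D.Wl.ι (toSpecOf D.ρ)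

variable (D) in
/-- The chart `U ⟶ XL`. -/
noncomputable def inlL : D.cU.pt ⟶ D.XL := pushout.inl _ _

variable (D) in
/-- The chart `Spec R ⟶ XL`. -/
noncomputable def inrL : Spec D.R ⟶ D.XL := pushout.inr _ _

instance : IsOpenImmersion D.inlL :=
  inferInstanceAs (IsOpenImmersion (pushout.inl D.Wl.ι (toSpecOf D.ρ)))
instance : IsOpenImmersion D.inrL :=
  inferInstanceAs (IsOpenImmersion (pushout.inr D.Wl.ι (toSpecOf D.ρ)))

lemma πW_jV (k : D.K) : toSpecOf D.ρ ≫ Spec.map (φR k) = D.πW (lev k) ≫ jV k := by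
  rw [toSpecOf_comp_SpecMap, jV, comp_toSpecOf, φR_ρ]

/-- The projections to the stages. -/
noncomputable def pX (k : D.K) : D.XL ⟶ X k :=
  pushout.map D.Wl.ι (toSpecOf D.ρ) (D.W (lev k)).ι (jV k) (D.cU.π.app (op (lev k)))
    (Spec.map (φR k)) (D.πW (lev k)) (D.πW_ι _).symm (πW_jV k)

@[reassoc]
lemma inlL_pX (k : D.K) : D.inlL ≫ pX k = D.cU.π.app (op (lev k)) ≫ inlX k :=
  pushout.inl_desc _ _ _

@[reassoc]
lemma inrL_pX (k : D.K) : D.inrL ≫ pX k = Spec.map (φR k) ≫ inrX k :=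
  pushout.inr_desc _ _ _

lemma XL_hom_ext {T : Scheme.{u}} {a b : D.XL ⟶ T} (h1 : D.inlL ≫ a = D.inlL ≫ b)
    (h2 : D.inrL ≫ a = D.inrL ≫ b) : a = b :=
  pushout.hom_ext h1 h2

lemma pX_tX {k k' : D.K} (h : k ≤ k') : pX k' ≫ tX h = pX k := by
  apply XL_hom_ext
  · rw [inlL_pX_assoc, inlX_tX, inlL_pX, ← Category.assoc, Cone.w]
  · rw [inrL_pX_assoc, inrX_tX, inrL_pX, ← Spec.map_comp_assoc, ψ_φR]

variable (D) in
/-- The cone over the stages. -/
noncomputable def cX : Cone D.DX where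
  pt := D.XL
  π :=
    { app := fun k => pX k.unop
      naturality := fun k k' f => by
        change 𝟙 _ ≫ pX k'.unop = pX k.unop ≫ tX _
        rw [Category.id_comp, pX_tX] }

lemma SpecMap_φR_preimage (k : D.K) :
    Spec.map (φR k) ⁻¹ᵁ (jV k).opensRange ≤ (toSpecOf D.ρ).opensRange := by
  intro x hx
  have hx' : Spec.map (φR k) x ∈ Set.range (jV k) := hx
  rw [range_jV] at hx'
  obtain ⟨j, hj⟩ := Set.mem_iUnion.mp hx'
  change x ∈ Set.range (toSpecOf D.ρ)
  rw [D.hrange]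
  refine Set.mem_iUnion.mpr ⟨j, ?_⟩
  have : x ∈ Spec.map (φR k) ⁻¹ᵁ PrimeSpectrum.basicOpen (D.fibSys.hA k j) := hj
  rw [SpecMap_preimage_basicOpen] at this
  exact this

lemma cUπ_preimage (k : D.K) :
    D.cU.π.app (op (lev k)) ⁻¹ᵁ (D.W (lev k)).ι.opensRange ≤ D.Wl.ι.opensRange := by
  rw [Scheme.Opens.opensRange_ι, Scheme.Opens.opensRange_ι, D.hWl']

lemma isPullback_inlL (k : D.K) :
    IsPullback (D.cU.π.app (op (lev k))) D.inlL (inlX k) (pX k) :=
  isPullback_inl_pushoutMap (D.W (lev k)).ι (jV k) D.Wl.ι (toSpecOf D.ρ)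
    (D.cU.π.app (op (lev k))) (Spec.map (φR k)) (D.πW (lev k)) (D.πW_ι _).symm (πW_jV k)
    (SpecMap_φR_preimage k)

lemma isPullback_inrL (k : D.K) :
    IsPullback (Spec.map (φR k)) D.inrL (inrX k) (pX k) :=
  isPullback_inr_pushoutMap (D.W (lev k)).ι (jV k) D.Wl.ι (toSpecOf D.ρ)
    (D.cU.π.app (op (lev k))) (Spec.map (φR k)) (D.πW (lev k)) (D.πW_ι _).symm (πW_jV k)
    (cUπ_preimage k)

end StepData

end Groth.Agent.H20.NA
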