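import Groth.Agent.H20.NA.RelApprox
import Groth.Agent.H20.NA.FibColim
import Groth.Agent.H20.NA.OpenImmCrit
import Groth.Agent.H20.NA.FTInt

/-!
# The data of the induction step (helper20)
-/

set_option autoImplicit false
universe u
open CategoryTheory CategoryTheory.Limits AlgebraicGeometry Opposite TopologicalSpace

namespace Groth.Agent.H20.NA

/-- The data for the induction step, normalised at a bottom index. -/
structure StepData (I : Type u) [Preorder I] where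
  bot : I
  hbot : ∀ i, bot ≤ i
  DU : Iᵒᵖ ⥤ Scheme.{u}
  haff : ∀ (i i' : Iᵒᵖ) (f : i ⟶ i'), IsAffineHom (DU.map f)
  hft : ∀ i, IsFT (DU.obj i)
  cU : Cone DU
  hcU : IsLimit cU
  W₁ : (DU.obj (op bot)).Opens
  Wl : cU.pt.Opens
  hWl : cU.π.app (op bot) ⁻¹ᵁ W₁ = Wl
  R : CommRingCat.{u}
  ρ : R ⟶ Γ((Wl : Scheme.{u}), ⊤)
  hρ : IsOpenImmersion (toSpecOf ρ)
  m : ℕ
  g : Fin m → R
  hrange : Set.range (toSpecOf ρ) =
    ⋃ j, (PrimeSpectrum.basicOpen (g j) : Set (PrimeSpectrum R))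
  f : Fin m → Γ((W₁ : Scheme.{u}), ⊤)
  hf : ∀ j, ((cU.π.app (op bot)).resLE W₁ Wl hWl.ge).appTop.hom (f j) = ρ.hom (g j)
  haffb : ∀ j, IsAffineOpen ((W₁ : Scheme.{u}).basicOpen (f j))
  hcovb : ⨆ j, (W₁ : Scheme.{u}).basicOpen (f j) = ⊤

namespace StepData

variable {I : Type u} [Preorder I] (D : StepData I)

/-- The map to the bottom index. -/
def toBot (i : I) : op i ⟶ op D.bot := (homOfLE (D.hbot i)).op

/-- The open `W i ⊆ U i`. -/
def W (i : I) : (D.DU.obj (op i)).Opens := D.DU.map (D.toBot i) ⁻¹ᵁ D.W₁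

lemma W_eq {i i' : I} (h : i ≤ i') : D.DU.map (homOfLE h).op ⁻¹ᵁ D.W i = D.W i' := by
  rw [W, W, ← Scheme.Hom.comp_preimage, ← Functor.map_comp]
  congr 2

lemma hWl' (i : I) : D.cU.π.app (op i) ⁻¹ᵁ D.W i = D.Wl := by
  rw [W, ← Scheme.Hom.comp_preimage, Cone.w, D.hWl]

/-- The transition maps of the `W i`. -/
noncomputable def uW {i i' : I} (h : i ≤ i') : (D.W i' : Scheme.{u}) ⟶ (D.W i : Scheme.{u}) :=
  (D.DU.map (homOfLE h).op).resLE (D.W i) (D.W i') (D.W_eq h).ge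

/-- The projections from the limit. -/
noncomputable def πW (i : I) : (D.Wl : Scheme.{u}) ⟶ (D.W i : Scheme.{u}) :=
  (D.cU.π.app (op i)).resLE (D.W i) D.Wl (D.hWl' i).ge

/-- The maps to `W₁`. -/
noncomputable def toW₁ (i : I) : (D.W i : Scheme.{u}) ⟶ (D.W₁ : Scheme.{u}) :=
  (D.DU.map (D.toBot i)).resLE D.W₁ (D.W i) le_rfl

@[reassoc]
lemma uW_ι {i i' : I} (h : i ≤ i') :
    D.uW h ≫ (D.W i).ι = (D.W i').ι ≫ D.DU.map (homOfLE h).op :=
  Scheme.Hom.resLE_comp_ι _ _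

@[reassoc]
lemma πW_ι (i : I) : D.πW i ≫ (D.W i).ι = D.Wl.ι ≫ D.cU.π.app (op i) :=
  Scheme.Hom.resLE_comp_ι _ _

@[reassoc]
lemma toW₁_ι (i : I) : D.toW₁ i ≫ D.W₁.ι = (D.W i).ι ≫ D.DU.map (D.toBot i) :=
  Scheme.Hom.resLE_comp_ι _ _

lemma uW_refl (i : I) : D.uW (le_refl i) = 𝟙 _ := by
  rw [← cancel_mono (D.W i).ι, uW_ι, Category.id_comp]
  have : (homOfLE (le_refl i)).op = 𝟙 (op i) := Subsingleton.elim _ _
  rw [this, D.DU.map_id, Category.comp_id]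

@[reassoc]
lemma uW_trans {i i' i'' : I} (h : i ≤ i') (h' : i' ≤ i'') :
    D.uW h' ≫ D.uW h = D.uW (h.trans h') := by
  rw [← cancel_mono (D.W i).ι, Category.assoc, uW_ι, uW_ι_assoc, uW_ι, ← Functor.map_comp]
  congr 2

@[reassoc]
lemma πW_uW {i i' : I} (h : i ≤ i') : D.πW i' ≫ D.uW h = D.πW i := by
  rw [← cancel_mono (D.W i).ι, Category.assoc, uW_ι, πW_ι_assoc, πW_ι, Cone.w]

@[reassoc]
lemma uW_toW₁ {i i' : I} (h : i ≤ i') : D.uW h ≫ D.toW₁ i = D.toW₁ i' := by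
  rw [← cancel_mono D.W₁.ι, Category.assoc, toW₁_ι, uW_ι_assoc, toW₁_ι, ← Functor.map_comp]
  congr 2

lemma πW_toW₁ (i : I) :
    D.πW i ≫ D.toW₁ i = (D.cU.π.app (op D.bot)).resLE D.W₁ D.Wl D.hWl.ge := by
  rw [← cancel_mono D.W₁.ι, Category.assoc, toW₁_ι, πW_ι_assoc, Scheme.Hom.resLE_comp_ι, Cone.w]

end StepData

end Groth.Agent.H20.NA
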