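import Groth.Agent.H20.NA.StepCone

/-!
# The cone over the stages is a limit cone (helper20)
-/

set_option autoImplicit false
universe u
open CategoryTheory CategoryTheory.Limits AlgebraicGeometry Opposite TopologicalSpace

namespace Groth.Agent.H20.NA

namespace StepData

variable {I : Type u} [Preorder I] (D : StepData I)
variable [IsDirected I (fun a b => a ≤ b)] [Nonempty I]

/-- The functor of levels. -/
noncomputable def levF : D.Kᵒᵖ ⥤ Iᵒᵖ := (D.fibSys.α.monotone.functor).op

instance : (D.fibSys.α.monotone.functor).Final :=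
  Functor.final_of_exists_of_isFiltered _
    (fun i => by
      obtain ⟨k, hk⟩ := D.fibSys.exists_idx_i i
      exact ⟨k, ⟨homOfLE (le_of_eq hk.symm)⟩⟩)
    (fun {d c} s s' => ⟨c, 𝟙 c, Subsingleton.elim _ _⟩)

instance : D.levF.Initial := by
  unfold levF
  infer_instance

/-- The chart of the `U i`. -/
noncomputable def E₁ : SubSys D.DX where
  F := D.levF ⋙ D.DU
  ι :=
    { app := fun k => inlX k.unop
      naturality := fun k k' f => (inlX_tX (leOfHom f.unop)).symm }
  oi := fun k => inferInstanceAs (IsOpenImmersion (inlX k.unop))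
  cart := fun f => isPullback_inlX (leOfHom f.unop)

/-- The chart cone of the `U i`. -/
noncomputable def C₁ : ChartCone D.E₁ D.cX where
  cF := D.cU.whisker D.levF
  hcF := (Functor.Initial.isLimitWhiskerEquiv D.levF D.cU).symm D.hcU
  a := D.inlL
  sq := fun k => isPullback_inlL k.unop

/-- The chart of the `Spec A_k`. -/
noncomputable def E₂ : SubSys D.DX where
  F := D.fibSys.diagram.op ⋙ Scheme.Spec
  ι :=
    { app := fun k => inrX k.unop
      naturality := fun k k' f => (inrX_tX (leOfHom f.unop)).symm }
  oi := fun k => inferInstanceAs (IsOpenImmersion (inrX k.unop))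
  cart := fun f => isPullback_inrX (leOfHom f.unop)

/-- The chart cone of the `Spec A_k`. -/
noncomputable def C₂ : ChartCone D.E₂ D.cX where
  cF := Scheme.Spec.mapCone D.fibSys.cocone.op
  hcF := isLimitOfPreserves Scheme.Spec D.fibSys.isColimit_cocone.some.op
  a := D.inrL
  sq := fun k => isPullback_inrL k.unop

theorem isLimit_cX : Nonempty (IsLimit D.cX) := by
  haveI : ∀ (i j : D.Kᵒᵖ) (f : i ⟶ j), IsAffineHom (D.DX.map f) := DX_affine
  obtain ⟨k₀⟩ : Nonempty D.K := inferInstance
  exact isLimit_of_two_charts D.cX D.E₁ D.E₂ D.C₁ D.C₂ (op k₀) (range_inlX_union k₀)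

end StepData

end Groth.Agent.H20.NA
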