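import Groth.Agent.H20.NA.StepLimit

/-!
# The relative approximation produced by the step data (helper20)
-/

set_option autoImplicit false
universe u
open CategoryTheory CategoryTheory.Limits AlgebraicGeometry Opposite TopologicalSpace

namespace Groth.Agent.H20.NA

namespace StepData

variable {I : Type u} [Preorder I] (D : StepData I)
variable [IsDirected I (fun a b => a ≤ b)] [Nonempty I]

/-- The relative approximation of `U ∪_W Spec R`. -/
noncomputable def relApprox : RelApprox D.DU D.cU D.inlL where
  J := D.K
  D := D.DX
  c := D.cX
  hc := D.isLimit_cX.some
  e := Iso.refl _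
  α := D.fibSys.α
  ι := fun k => inlX k
  oi := fun k => inferInstanceAs (IsOpenImmersion (inlX k))
  aff := DX_affine
  ft := DX_ft
  sq := fun k k' h => isPullback_inlX h
  sqc := fun k => by
    have := isPullback_inlL k
    change IsPullback (D.cU.π.app (op (lev k))) (D.inlL ≫ 𝟙 _) (inlX k) (pX k)
    rw [Category.comp_id]
    exact this

end StepData

end Groth.Agent.H20.NA
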