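import Groth.Agent.H20.NA.KerExt

/-!
# Preparations for the induction step (helper20)
-/

set_option autoImplicit false
universe u
open CategoryTheory CategoryTheory.Limits AlgebraicGeometry Opposite TopologicalSpace

namespace Groth.Agent.H20.NA

section Top

variable {X U V : Scheme.{u}} (a : U ⟶ X) (b : V ⟶ X) [IsOpenImmersion a] [IsOpenImmersion b]

lemma isCompact_preimage_opensRange [QuasiSeparatedSpace X] [CompactSpace U] [CompactSpace V] :
    IsCompact ((a ⁻¹ᵁ b.opensRange : U.Opens) : Set U) := by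
  have h1 : IsCompact (Set.range a ∩ Set.range b) :=
    QuasiSeparatedSpace.inter_isCompact _ _ a.isOpenEmbedding.isOpen_range
      (isCompact_range a.continuous) b.isOpenEmbedding.isOpen_range (isCompact_range b.continuous)
  rw [a.isOpenEmbedding.isInducing.isCompact_iff]
  have : a '' ((a ⁻¹ᵁ b.opensRange : U.Opens) : Set U) = Set.range a ∩ Set.range b := by
    change a '' (a ⁻¹' Set.range b) = _
    rw [Set.image_preimage_eq_inter_range, Set.inter_comm]
  rw [this]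
  exact h1

end Top

section Lift

variable {X U : Scheme.{u}} {R : CommRingCat.{u}} (a : U ⟶ X) (b : Spec R ⟶ X)
  [IsOpenImmersion a] [IsOpenImmersion b] (Wl : U.Opens) (hWl : Wl = a ⁻¹ᵁ b.opensRange)

include hWl in
lemma range_ι_comp_subset : Set.range (Wl.ι ≫ a) ⊆ Set.range b := by
  rintro _ ⟨x, rfl⟩
  have hx : x.1 ∈ a ⁻¹ᵁ b.opensRange := hWl ▸ x.2
  exact hx

/-- The map `Wl ⟶ Spec R`. -/
noncomputable def liftQ : (Wl : Scheme.{u}) ⟶ Spec R :=
  IsOpenImmersion.lift b (Wl.ι ≫ a) (range_ι_comp_subset a b Wl hWl)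

@[reassoc]
lemma liftQ_fac : liftQ a b Wl hWl ≫ b = Wl.ι ≫ a := IsOpenImmersion.lift_fac _ _ _

instance : IsOpenImmersion (liftQ a b Wl hWl) := by
  have : IsOpenImmersion (liftQ a b Wl hWl ≫ b) := by rw [liftQ_fac]; infer_instance
  exact IsOpenImmersion.of_comp _ b

/-- The ring map `R ⟶ Γ(Wl, ⊤)`. -/
noncomputable def liftρ : R ⟶ Γ((Wl : Scheme.{u}), ⊤) :=
  (Scheme.ΓSpecIso R).inv ≫ (liftQ a b Wl hWl).appTop

lemma toSpecOf_liftρ : toSpecOf (liftρ a b Wl hWl) = liftQ a b Wl hWl := by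
  rw [toSpecOf, liftρ, Spec.map_comp, ← Category.assoc, ← Scheme.toSpecΓ_naturality,
    Category.assoc, toSpecΓ_SpecMap_ΓSpecIso_inv, Category.comp_id]

lemma opensRange_liftQ : (liftQ a b Wl hWl).opensRange = b ⁻¹ᵁ a.opensRange := by
  apply Opens.ext
  ext x
  constructor
  · rintro ⟨y, rfl⟩
    change b (liftQ a b Wl hWl y) ∈ Set.range a
    rw [← Scheme.Hom.comp_apply, liftQ_fac]
    exact ⟨y.1, rfl⟩
  · rintro ⟨u, hu⟩
    have hu' : u ∈ Wl := by
      rw [hWl]
      exact ⟨x, hu.symm⟩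
    let y : (Wl : Scheme.{u}) := ⟨u, hu'⟩
    refine ⟨y, ?_⟩
    apply b.isOpenEmbedding.injective
    have : (liftQ a b Wl hWl ≫ b) y = (Wl.ι ≫ a) y := by rw [liftQ_fac]
    exact this.trans hu

lemma isPullback_liftQ : IsPullback Wl.ι (liftQ a b Wl hWl) a b :=
  (IsOpenImmersion.isPullback Wl.ι (liftQ a b Wl hWl) a b (liftQ_fac a b Wl hWl)
    (by rw [opensRange_liftQ])).flip.flip

end Lift

section Basic

variable {R : CommRingCat.{u}}

lemma exists_fin_basicOpen (Q : Opens (PrimeSpectrum R)) (hQ : IsCompact (Q : Set (PrimeSpectrum R))) :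
    ∃ (m : ℕ) (g : Fin m → R),
      (Q : Set (PrimeSpectrum R)) = ⋃ j, (PrimeSpectrum.basicOpen (g j) : Set (PrimeSpectrum R)) := by
  obtain ⟨Us, hUs, hfin, rfl⟩ :=
    (PrimeSpectrum.isBasis_basic_opens (R := R)).exists_finite_of_isCompact hQ
  have : Finite Us := hfin
  obtain ⟨m, ⟨e⟩⟩ := Finite.exists_equiv_fin Us
  choose r hr using fun O : Us => hUs O.2
  refine ⟨m, fun j => r (e.symm j), ?_⟩
  ext x
  simp only [Opens.coe_sSup, Set.mem_iUnion, SetLike.mem_coe, exists_prop]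
  constructor
  · rintro ⟨O, hO, hx⟩
    refine ⟨e ⟨O, hO⟩, ?_⟩
    rw [Equiv.symm_apply_apply, hr]
    exact hx
  · rintro ⟨j, hj⟩
    refine ⟨(e.symm j).1, (e.symm j).2, ?_⟩
    rw [hr] at hj
    exact hj

end Basic

end Groth.Agent.H20.NA
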