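import Groth.Agent.H20.NA.StepMain
import Groth.Agent.H20.NA.Select
import Groth.Agent.H20.NA.StepPrep
import Groth.Agent.H20.NA.Induction

/-!
# Proof of the induction step (helper20)
-/

set_option autoImplicit false
universe u
open CategoryTheory CategoryTheory.Limits AlgebraicGeometry Opposite TopologicalSpace

namespace Groth.Agent.H20.NA

section Thin

instance over_isThin {C : Type u} [SmallCategory C] [Quiver.IsThin C] (X : C) :
    Quiver.IsThin (Over X) := fun _ _ =>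
  ⟨fun f g => Over.OverMorphism.ext (Subsingleton.elim _ _)⟩

end Thin

namespace StepBuild

variable {I : Type u} [Preorder I] [IsDirected I (fun a b => a ≤ b)] [Nonempty I]
  (DU : Iᵒᵖ ⥤ Scheme.{u}) (haff : ∀ (i i' : Iᵒᵖ) (f : i ⟶ i'), IsAffineHom (DU.map f))
  (hft : ∀ i, IsFT (DU.obj i)) (cU : Cone DU) (hcU : IsLimit cU)

/-- The upper set of indices. -/
abbrev Up (i₂ : I) : Type u := {i : I // i₂ ≤ i}

instance (i₂ : I) : IsDirected (Up i₂) (fun a b => a ≤ b) :=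
  ⟨fun x y => by
    obtain ⟨z, hx, hy⟩ := exists_ge_ge x.1 y.1
    exact ⟨⟨z, x.2.trans hx⟩, hx, hy⟩⟩

instance (i₂ : I) : Nonempty (Up i₂) := ⟨⟨i₂, le_refl _⟩⟩

/-- The inclusion of the upper set. -/
def ν (i₂ : I) : Up i₂ →o I := ⟨Subtype.val, fun _ _ h => h⟩

instance (i₂ : I) : ((ν i₂).monotone.functor).Final :=
  Functor.final_of_exists_of_isFiltered _
    (fun i => by
      obtain ⟨z, hx, hy⟩ := exists_ge_ge i i₂
      exact ⟨⟨z, hy⟩, ⟨homOfLE hx⟩⟩)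
    (fun {d c} s s' => ⟨c, 𝟙 c, Subsingleton.elim _ _⟩)

/-- The restricted system. -/
noncomputable abbrev DU' (i₂ : I) : (Up i₂)ᵒᵖ ⥤ Scheme.{u} := (ν i₂).monotone.functor.op ⋙ DU

/-- The restricted cone. -/
noncomputable abbrev cU' (i₂ : I) : Cone (DU' DU i₂) := cU.whisker (ν i₂).monotone.functor.op

/-- The restricted cone is a limit cone. -/
noncomputable def hcU' (i₂ : I) : IsLimit (cU' DU cU i₂) :=
  (Functor.Initial.isLimitWhiskerEquiv (ν i₂).monotone.functor.op cU).symm hcU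

section Data

variable {X : Scheme.{u}} (a : cU.pt ⟶ X) [IsOpenImmersion a] {R : CommRingCat.{u}}
  (b : Spec R ⟶ X) [IsOpenImmersion b]
  (i₁ : Iᵒᵖ) (W₁ : (DU.obj i₁).Opens) (hW₁ : cU.π.app i₁ ⁻¹ᵁ W₁ = a ⁻¹ᵁ b.opensRange)
  (m : ℕ) (g : Fin m → R)
  (hg : ((b ⁻¹ᵁ a.opensRange : (Spec R).Opens) : Set (Spec R)) =
    ⋃ j, (PrimeSpectrum.basicOpen (g j) : Set (PrimeSpectrum R)))
  (i₂' : Over i₁) (t : Fin m → Γ((opensDiagram DU i₁ W₁).obj i₂', ⊤))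
  (ht1 : ∀ j, ((opensCone DU cU i₁ W₁).π.app i₂').appTop.hom (t j) =
    (liftρ a b (cU.π.app i₁ ⁻¹ᵁ W₁) hW₁).hom (g j))
  (ht2 : ∀ j, IsAffineOpen (((opensDiagram DU i₁ W₁).obj i₂').basicOpen (t j)))
  (ht3 : ⨆ j, ((opensDiagram DU i₁ W₁).obj i₂').basicOpen (t j) = ⊤)

include hg in
lemma range_toSpecOf_liftρ :
    Set.range (toSpecOf (liftρ a b (cU.π.app i₁ ⁻¹ᵁ W₁) hW₁)) =
      ⋃ j, (PrimeSpectrum.basicOpen (g j) : Set (PrimeSpectrum R)) := by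
  rw [toSpecOf_liftρ, ← hg]
  exact congrArg (fun O : (Spec R).Opens => (O : Set (Spec R))) (opensRange_liftQ a b _ hW₁)

/-- The step data. -/
noncomputable def stepData : StepData (Up i₂'.left.unop) where
  bot := ⟨i₂'.left.unop, le_refl _⟩
  hbot := fun i => i.2
  DU := DU' DU i₂'.left.unop
  haff := fun _ _ f => haff _ _ _
  hft := fun i => hft _
  cU := cU' DU cU i₂'.left.unop
  hcU := hcU' DU cU hcU i₂'.left.unop
  W₁ := DU.map i₂'.hom ⁻¹ᵁ W₁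
  Wl := cU.π.app i₁ ⁻¹ᵁ W₁
  hWl := by
    change cU.π.app i₂'.left ⁻¹ᵁ (DU.map i₂'.hom ⁻¹ᵁ W₁) = cU.π.app i₁ ⁻¹ᵁ W₁
    rw [← Scheme.Hom.comp_preimage, Cone.w]
  R := R
  ρ := liftρ a b (cU.π.app i₁ ⁻¹ᵁ W₁) hW₁
  hρ := by
    rw [toSpecOf_liftρ]
    infer_instance
  m := m
  g := g
  hrange := range_toSpecOf_liftρ DU cU a b i₁ W₁ hW₁ m g hg
  f := t
  hf := ht1
  haffb := ht2
  hcovb := ht3

end Data

end StepBuild

open StepBuild in
theorem step : StepStatement.{u} := by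
  intro I _ _ _ DU haff hft cU hcU X _ a _ R b _ hcov
  haveI hAff : ∀ {i j : Iᵒᵖ} (f : i ⟶ j), IsAffineHom (DU.map f) := fun f => haff _ _ f
  haveI hC : ∀ i, CompactSpace (DU.obj i) := fun i => (hft i).1
  haveI hN : ∀ i, IsNoetherian (DU.obj i) := fun i => by
    have := (hft i).2
    exact isNoetherian_of_ft _
  haveI : CompactSpace cU.pt := Scheme.compactSpace_of_isLimit DU cU hcU
  obtain ⟨i₁, W₁, -, hW₁⟩ := exists_preimage_eq DU cU hcU (a ⁻¹ᵁ b.opensRange)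
    (isCompact_preimage_opensRange a b)
  obtain ⟨m, g, hg⟩ := exists_fin_basicOpen (b ⁻¹ᵁ a.opensRange)
    (isCompact_preimage_opensRange b a)
  haveI : ∀ j : Over i₁, IsNoetherian ((opensDiagram DU i₁ W₁).obj j) := fun j => by
    have : CompactSpace ((opensDiagram DU i₁ W₁).obj j) :=
      isCompact_iff_compactSpace.mp (NoetherianSpace.isCompact _)
    have : IsLocallyNoetherian ((opensDiagram DU i₁ W₁).obj j) :=
      inferInstanceAs (IsLocallyNoetherian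
        ((DU.map j.hom ⁻¹ᵁ W₁ : (DU.obj j.left).Opens) : Scheme.{u}))
    exact {}
  have hrange := range_toSpecOf_liftρ DU cU a b i₁ W₁ hW₁ m g hg
  haveI hoi : IsOpenImmersion (toSpecOf (liftρ a b (cU.π.app i₁ ⁻¹ᵁ W₁) hW₁)) := by
    rw [toSpecOf_liftρ]
    infer_instance
  have hle : ∀ j, PrimeSpectrum.basicOpen (g j) ≤
      (toSpecOf (liftρ a b (cU.π.app i₁ ⁻¹ᵁ W₁) hW₁)).opensRange := by
    intro j x hx
    change x ∈ Set.range (toSpecOf (liftρ a b (cU.π.app i₁ ⁻¹ᵁ W₁) hW₁))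
    rw [hrange]
    exact Set.mem_iUnion.mpr ⟨j, hx⟩
  have haffs : ∀ j, IsAffineOpen ((opensCone DU cU i₁ W₁).pt.basicOpen
      ((liftρ a b (cU.π.app i₁ ⁻¹ᵁ W₁) hW₁).hom (g j))) := by
    intro j
    have h1 := (IsAffineOpen.Spec_basicOpen (g j)).preimage_of_isOpenImmersion
      (toSpecOf (liftρ a b (cU.π.app i₁ ⁻¹ᵁ W₁) hW₁)) (hle j)
    rw [toSpecOf_preimage_basicOpen] at h1
    exact h1
  have hcovs : ⨆ j, (opensCone DU cU i₁ W₁).pt.basicOpen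
      ((liftρ a b (cU.π.app i₁ ⁻¹ᵁ W₁) hW₁).hom (g j)) = ⊤ := by
    rw [eq_top_iff]
    intro x _
    have hx : toSpecOf (liftρ a b (cU.π.app i₁ ⁻¹ᵁ W₁) hW₁) x ∈
        Set.range (toSpecOf (liftρ a b (cU.π.app i₁ ⁻¹ᵁ W₁) hW₁)) := ⟨x, rfl⟩
    rw [hrange] at hx
    obtain ⟨j, hj⟩ := Set.mem_iUnion.mp hx
    refine Opens.mem_iSup.mpr ⟨j, ?_⟩
    have h1 : x ∈ toSpecOf (liftρ a b (cU.π.app i₁ ⁻¹ᵁ W₁) hW₁) ⁻¹ᵁ
        PrimeSpectrum.basicOpen (g j) := hj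
    rw [toSpecOf_preimage_basicOpen] at h1
    exact h1
  obtain ⟨i₂', t, ht1, ht2, ht3⟩ := Select.exists_stage (opensDiagram DU i₁ W₁)
    (opensCone DU cU i₁ W₁) (isLimitOpensCone DU cU hcU i₁ W₁)
    (fun j => (liftρ a b (cU.π.app i₁ ⁻¹ᵁ W₁) hW₁).hom (g j)) haffs hcovs
  let S := stepData DU haff hft cU hcU a b i₁ W₁ hW₁ m g hg i₂' t ht1 ht2 ht3
  have hpb : IsPullback (cU.π.app i₁ ⁻¹ᵁ W₁).ι
      (toSpecOf (liftρ a b (cU.π.app i₁ ⁻¹ᵁ W₁) hW₁)) a b := by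
    have h1 := isPullback_liftQ a b (cU.π.app i₁ ⁻¹ᵁ W₁) hW₁
    rw [toSpecOf_liftρ]
    exact h1
  have hiso : IsIso (pushout.desc a b hpb.w) :=
    isIso_pushoutDesc a b (cU.π.app i₁ ⁻¹ᵁ W₁).ι
      (toSpecOf (liftρ a b (cU.π.app i₁ ⁻¹ᵁ W₁) hW₁)) hpb hcov
  let e : S.XL ≅ X := @asIso _ _ _ _ (pushout.desc a b hpb.w) hiso
  have he : S.inlL ≫ e.hom = a := pushout.inl_desc a b hpb.w
  have A : RelApprox (DU' DU i₂'.left.unop) (cU' DU cU i₂'.left.unop) a :=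
    (S.relApprox.ofIso e).ofEq he
  exact ⟨A.reindex (ν i₂'.left.unop)⟩

end Groth.Agent.H20.NA
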