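import Groth.Agent.H20.NA.WSystem
import Groth.Agent.H20.NA.KerExt

/-!
# The ring-level system attached to the step data (helper20)
-/

set_option autoImplicit false
universe u
open CategoryTheory CategoryTheory.Limits AlgebraicGeometry Opposite TopologicalSpace

namespace Groth.Agent.H20.NA

namespace StepData

variable {I : Type u} [Preorder I] (D : StepData I)

/-- The sections `f j` transported to level `i`. -/
noncomputable def ff (i : I) (j : Fin D.m) : Γ((D.W i : Scheme.{u}), ⊤) :=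
  (D.toW₁ i).appTop.hom (D.f j)

lemma basicOpen_ff (i : I) (j : Fin D.m) :
    (D.W i : Scheme.{u}).basicOpen (D.ff i j) =
      D.toW₁ i ⁻¹ᵁ (D.W₁ : Scheme.{u}).basicOpen (D.f j) :=
  (Scheme.preimage_basicOpen_top (D.toW₁ i) (D.f j)).symm

lemma isAffineOpen_basicOpen_ff (i : I) (j : Fin D.m) :
    IsAffineOpen ((D.W i : Scheme.{u}).basicOpen (D.ff i j)) := by
  rw [basicOpen_ff]
  exact (D.haffb j).preimage (D.toW₁ i)

lemma iSup_basicOpen_ff (i : I) :
    ⨆ j, (D.W i : Scheme.{u}).basicOpen (D.ff i j) = ⊤ := by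
  simp_rw [basicOpen_ff]
  rw [← Scheme.Hom.preimage_iSup, D.hcovb]
  rfl

instance : IsOpenImmersion (toSpecOf D.ρ) := D.hρ

lemma compactSpace_Wl : CompactSpace (D.Wl : Scheme.{u}) := by
  have h1 : IsCompact (Set.range (toSpecOf D.ρ)) := by
    rw [D.hrange]
    exact isCompact_iUnion fun j => PrimeSpectrum.isCompact_basicOpen _
  have h2 := (toSpecOf D.ρ).isOpenEmbedding.isInducing.isCompact_iff (s := Set.univ)
  rw [Set.image_univ] at h2
  exact isCompact_univ_iff.mp (h2.mpr h1)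

lemma basicOpen_g_le (j : Fin D.m) :
    PrimeSpectrum.basicOpen (D.g j) ≤ (toSpecOf D.ρ).opensRange := by
  intro x hx
  change x ∈ Set.range (toSpecOf D.ρ)
  rw [D.hrange]
  exact Set.mem_iUnion.mpr ⟨j, hx⟩

variable [IsDirected I (fun a b => a ≤ b)] [Nonempty I]

instance DW_affine {i j : Iᵒᵖ} (f : i ⟶ j) : IsAffineHom (D.DW.map f) := by
  change IsAffineHom (D.uW _)
  infer_instance

instance DW_compact (i : Iᵒᵖ) : CompactSpace (D.DW.obj i) := by
  change CompactSpace (D.W i.unop : Scheme.{u})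
  infer_instance

instance DW_qs (i : Iᵒᵖ) : QuasiSeparatedSpace (D.DW.obj i) := by
  change QuasiSeparatedSpace (D.W i.unop : Scheme.{u})
  infer_instance

lemma exists_σ_eq (s : Γ((D.Wl : Scheme.{u}), ⊤)) :
    ∃ (i : I) (t : Γ((D.W i : Scheme.{u}), ⊤)), (D.πW i).appTop.hom t = s := by
  obtain ⟨i, t, ht⟩ := exists_appTop_π_eq_of_isLimit D.DW D.cW D.isLimitCW s
  exact ⟨i.unop, t, ht.symm⟩

lemma exists_res_eq_zero (i : I) (t : Γ((D.W i : Scheme.{u}), ⊤))
    (ht : (D.πW i).appTop.hom t = 0) :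
    ∃ (i' : I) (h : i ≤ i'), (D.uW h).appTop.hom t = 0 := by
  obtain ⟨j, f, hf⟩ := exists_appTop_map_eq_zero_of_isLimit D.DW D.cW D.isLimitCW
    (i := op i) t ht
  exact ⟨j.unop, leOfHom f.unop, hf⟩

/-- The ring-level system. -/
noncomputable def fibSys : FibSys I where
  R := D.R
  Bl := Γ((D.Wl : Scheme.{u}), ⊤)
  ρ := D.ρ.hom
  B := fun i => Γ((D.W i : Scheme.{u}), ⊤)
  res := fun h => (D.uW h).appTop.hom
  res_id := fun i x => by
    rw [D.uW_refl]
    rfl
  res_comp := fun h h' x => by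
    rw [← D.uW_trans h h', Scheme.Hom.comp_appTop]
    rfl
  σ := fun i => (D.πW i).appTop.hom
  σ_res := fun {i i'} h x => by
    rw [← D.πW_uW h, Scheme.Hom.comp_appTop]
    rfl
  surj := D.exists_σ_eq
  inj := D.exists_res_eq_zero
  m := D.m
  g := D.g
  f := D.ff
  f_res := fun {i i'} h j => by
    change (D.uW h).appTop.hom ((D.toW₁ i).appTop.hom (D.f j)) = (D.toW₁ i').appTop.hom (D.f j)
    rw [← D.uW_toW₁ h, Scheme.Hom.comp_appTop]
    rfl
  σ_f := fun i j => by
    change (D.πW i).appTop.hom ((D.toW₁ i).appTop.hom (D.f j)) = D.ρ.hom (D.g j)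
    rw [← D.hf j, ← D.πW_toW₁ i, Scheme.Hom.comp_appTop]
    rfl
  ker := fun j => kerTorsion_of_basicOpen_le D.ρ (D.g j) (D.basicOpen_g_le j)
  ext := fun j =>
    haveI := D.compactSpace_Wl
    extendsPow_of_basicOpen_le D.ρ (D.g j) (D.basicOpen_g_le j)
  S := fun i j => Γ((D.W i : Scheme.{u}), (D.W i : Scheme.{u}).basicOpen (D.ff i j))
  loc := fun i j => isLocalization_basicOpen_of_qcqs (U := ⊤) isCompact_univ
    isQuasiSeparated_univ (D.ff i j)
  fg := fun i j => finiteType_int_of_isAffineOpen (D.isAffineOpen_basicOpen_ff i j)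

end StepData

end Groth.Agent.H20.NA
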