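import Groth.Agent.H20.NA.StepData

/-!
# The inverse system of the opens `W i` (helper20)
-/

set_option autoImplicit false
universe u
open CategoryTheory CategoryTheory.Limits AlgebraicGeometry Opposite TopologicalSpace

namespace Groth.Agent.H20.NA

set_option backward.isDefEq.respectTransparency.types false in
lemma isAffineHom_resLE {X Y : Scheme.{u}} (f : X ⟶ Y) [IsAffineHom f] (U : Y.Opens) (V : X.Opens)
    (e : V = f ⁻¹ᵁ U) : IsAffineHom (f.resLE U V e.le) := by
  subst e
  have : f.resLE U (f ⁻¹ᵁ U) le_rfl = f ∣_ U := by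
    rw [← cancel_mono U.ι, Scheme.Hom.resLE_comp_ι, morphismRestrict_ι]
  rw [this]
  exact IsZariskiLocalAtTarget.restrict ‹_› U

namespace StepData

variable {I : Type u} [Preorder I] (D : StepData I)

lemma isNoetherian_DU (i : Iᵒᵖ) : IsNoetherian (D.DU.obj i) := by
  have := (D.hft i).1
  have := (D.hft i).2
  exact isNoetherian_of_ft _

instance (i : I) : CompactSpace (D.W i : Scheme.{u}) := by
  have := D.isNoetherian_DU (op i)
  exact isCompact_iff_compactSpace.mp (NoetherianSpace.isCompact _)

instance (i : I) : QuasiSeparatedSpace (D.W i : Scheme.{u}) := by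
  have := D.isNoetherian_DU (op i)
  infer_instance

instance (i : I) : LocallyOfFiniteType (specULiftZIsTerminal.from (D.W i : Scheme.{u})) := by
  have := (D.hft (op i)).2
  have : specULiftZIsTerminal.from (D.W i : Scheme.{u}) =
      (D.W i).ι ≫ specULiftZIsTerminal.from (D.DU.obj (op i)) := specULiftZIsTerminal.hom_ext _ _
  rw [this]
  infer_instance

instance {i i' : I} (h : i ≤ i') : IsAffineHom (D.uW h) := by
  have := D.haff _ _ (homOfLE h).op
  exact isAffineHom_resLE _ _ _ (D.W_eq h).symm

instance (i : I) : IsAffineHom (D.toW₁ i) := by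
  have := D.haff _ _ (D.toBot i)
  exact isAffineHom_resLE _ _ _ rfl

/-- The inverse system of the `W i`. -/
noncomputable def DW : Iᵒᵖ ⥤ Scheme.{u} where
  obj i := (D.W i.unop : Scheme.{u})
  map {i i'} f := D.uW (leOfHom f.unop)
  map_id i := D.uW_refl _
  map_comp f g := (D.uW_trans _ _).symm

/-- The cone with point `Wl`. -/
noncomputable def cW : Cone D.DW where
  pt := (D.Wl : Scheme.{u})
  π :=
    { app := fun i => D.πW i.unop
      naturality := fun i i' f => by
        change 𝟙 _ ≫ D.πW i'.unop = D.πW i.unop ≫ D.uW _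
        rw [Category.id_comp, D.πW_uW] }

/-- The inclusions `W i ⟶ U i`. -/
noncomputable def ιW : D.DW ⟶ D.DU where
  app i := (D.W i.unop).ι
  naturality i i' f := by
    change D.uW _ ≫ _ = _ ≫ _
    rw [D.uW_ι]
    congr 2

/-- `Wl` is the limit of the `W i`. -/
noncomputable def isLimitCW [IsDirected I (fun a b => a ≤ b)] [Nonempty I] : IsLimit D.cW :=
  haveI : IsConnected Iᵒᵖ := IsCofiltered.isConnected Iᵒᵖ
  isLimitOfIsPullbackOfIsConnected D.ιW D.cW D.cU
    { hom := D.Wl.ι
      w := fun i => (D.πW_ι i.unop).symm }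
    (fun i => IsOpenImmersion.isPullback (D.πW i.unop) D.Wl.ι (D.W i.unop).ι
      (D.cU.π.app (op i.unop)) (D.πW_ι i.unop).symm (by
      change D.cU.π.app (op i.unop) ⁻¹ᵁ (D.W i.unop).ι.opensRange = D.Wl.ι.opensRange
      rw [Scheme.Opens.opensRange_ι, Scheme.Opens.opensRange_ι, D.hWl']))
    D.hcU

end StepData

end Groth.Agent.H20.NA
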